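import Cfsg.Agent.Lib.PermGp.ZassenhausEven.Iso
import Mathlib.Algebra.Algebra.Subalgebra.Basic

/-!
# Zassenhaus groups with inverted two-point stabilisers of odd half size
-/

set_option autoImplicit false
set_option linter.all false

namespace Cfsg.Agent.ZassSharp.Odd

open MulAction Matrix PermGp PermGp.ZEven
open scoped LinearAlgebra.Projectivization

universe u v

variable {G : Type u} {Ω : Type v} [Group G] [MulAction G Ω] [Finite G] [Fintype Ω] {a b : Ω}
  {F : Subgroup G}

/-- Coordinates in which a swapping involution is `x ↦ κ / x`. -/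
structure OddCoord (K : Type) [Field K] (a b : Ω) (F : Subgroup G) (φ : K → Ω) (w : G) (κ : K) : Prop where
  inj : Function.Injective φ
  ne : ∀ x, φ x ≠ a
  surj : ∀ y, y ≠ a → ∃ x, φ x = y
  zero : φ 0 = b
  swap : w • a = b
  swap' : w • b = a
  invol : ∀ x, x ≠ 0 → w • φ x = φ (κ / x)
  translate : ∀ u ∈ F, ∃ c : K, ∀ x, u • φ x = φ (c + x)
  dilate : ∀ g : G, g • a = a → g • b = b → ∃ c : K, c ≠ 0 ∧ IsSquare c ∧ ∀ x, g • φ x = φ (c * x)

theorem exists_oddCoord (hZ : ZKer a F) (Z : ZGrp G Ω) (hab : a ≠ b)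
    (hodd : Odd (Nat.card ↥(stabilizer G a ⊓ stabilizer G b)))
    (heq : 2 * Nat.card ↥(stabilizer G a ⊓ stabilizer G b) = Fintype.card Ω - 2)
    (hinv : ∀ s : G, s • a = b → s • b = a → ∀ h ∈ stabilizer G a ⊓ stabilizer G b, s * h * s⁻¹ = h⁻¹) :
    ∃ (p f : ℕ) (K : Type) (_ : Field K) (_ : Fintype K) (φ : K → Ω) (w : G) (κ : K), p.Prime ∧ p ≠ 2 ∧
      Fintype.card K = p ^ f ∧ Fintype.card K = 2 * Nat.card ↥(stabilizer G a ⊓ stabilizer G b) + 1 ∧
      κ ≠ 0 ∧ IsSquare (-κ) ∧ OddCoord K a b F φ w κ := by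
  have hle : Fintype.card Ω - 2 ≤ 2 * Nat.card ↥(stabilizer G a ⊓ stabilizer G b) := heq.ge
  classical
  set H := stabilizer G a ⊓ stabilizer G b with hH
  set d := Nat.card H with hddef
  have hmemH : ∀ {h : G}, h ∈ H → h • a = a ∧ h • b = b := fun hh => Subgroup.mem_inf.mp hh
  have hd1 := Z.stab_pos hab
  rw [← hH, ← hddef] at hd1
  obtain ⟨hFc, p, f, hp, hexp, hcardΩ⟩ := elementary hZ Z hab hle
  haveI := Fact.mk hp
  have hn := hZ.card_add_one hab
  have hq : p ^ f = 2 * d + 1 := by omega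
  have hp2 : p ≠ 2 := by
    rintro rfl
    rcases f with _ | f
    · omega
    · rw [pow_succ] at hq; omega
  obtain ⟨s₀, hs₀a, hs₀b⟩ := two_trans_exists Z.two hab hab.symm
  -- inversion
  have hHcomm : ∀ h ∈ H, ∀ k ∈ H, h * k = k * h := by
    intro h hh k hk
    have h1 := hinv s₀ hs₀a hs₀b _ (H.mul_mem hh hk)
    rw [show s₀ * (h * k) * s₀⁻¹ = (s₀ * h * s₀⁻¹) * (s₀ * k * s₀⁻¹) by group, hinv s₀ hs₀a hs₀b h hh,
      hinv s₀ hs₀a hs₀b k hk, ← _root_.mul_inv_rev, _root_.inv_inj] at h1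
    exact h1.symm
  -- the vector space
  obtain ⟨V, iV, iM, iF, τ, hτF, hτs, hτi, hτ0, hτadd⟩ :=
    exists_module (p := p) (fun u hu v hv => congrArg Subtype.val (isMulCommutative_iff.mp hFc ⟨u, hu⟩ ⟨v, hv⟩)) hexp
  choose lin0 hlin0 using fun (h : H) (x : V) => hτs _ (hZ.conj h (hmemH h.2).1 _ (hτF x))
  let lin : H → Module.End (ZMod p) V := fun h =>
    AddMonoidHom.toZModLinearMap p (AddMonoidHom.mk' (lin0 h) (fun x y => hτi (by
      rw [hlin0, hτadd, hτadd, hlin0, hlin0]; group)))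
  have hlin : ∀ (h : H) (x : V), τ (lin h x) = h * τ x * (h : G)⁻¹ := hlin0
  have hlmul : ∀ h k : H, lin h * lin k = lin (h * k) := fun h k => LinearMap.ext fun x => hτi (by
    rw [Module.End.mul_apply, hlin, hlin, hlin, Subgroup.coe_mul]; group)
  have hpt : ∀ (h : H) (v : V), τ (lin h v) • b = (h : G) • τ v • b := fun h v => by
    rw [hlin, hZ.conj_smul (hmemH h.2).2 (hτF v)]
  have hfix : ∀ (h k : H) (v : V), v ≠ 0 → lin h v = lin k v → h = k := by
    intro h k v hv hhk
    have hm := hmemH (H.mul_mem (H.inv_mem k.2) h.2)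
    have := hZ.fpf Z hab (g := (k : G)⁻¹ * h) hm.1 hm.2 (hτF v) (fun e => hv (hτi (e.trans hτ0.symm))) (by
      have e := congrArg τ hhk
      rw [hlin, hlin] at e
      calc (k : G)⁻¹ * h * τ v * ((k : G)⁻¹ * h)⁻¹ = (k : G)⁻¹ * ((h : G) * τ v * (h : G)⁻¹) * k := by group
      _ = τ v := by rw [e]; group)
    exact Subtype.ext (inv_mul_eq_one.mp this).symm
  have hVcard : Nat.card V = 2 * d + 1 := by
    rw [← hq]
    have h : Nat.card V = Nat.card F := Nat.card_eq_of_bijective (fun v => ⟨τ v, hτF v⟩)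
      ⟨fun v w h => hτi (congrArg Subtype.val h), fun u => by
        obtain ⟨v, hv⟩ := hτs u u.2
        exact ⟨v, Subtype.ext hv⟩⟩
    omega
  haveI := Fintype.ofFinite V
  have hirr : ∀ W : Submodule (ZMod p) V, (∀ h : H, ∀ v ∈ W, lin h v ∈ W) → W = ⊥ ∨ W = ⊤ := by
    intro W hW
    by_contra! hne
    obtain ⟨x, hxW, hx0⟩ := Submodule.exists_mem_ne_zero_of_ne_bot hne.1
    obtain ⟨y, hyW⟩ : ∃ y : V, y ∉ W := by
      by_contra! hall
      exact hne.2 (eq_top_iff.mpr fun v _ => hall v)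
    have hy0 : y ≠ 0 := fun e => hyW (e ▸ W.zero_mem)
    have hone : ∀ v, lin 1 v = v := fun v => hτi (by rw [hlin, Subgroup.coe_one]; group)
    have h1 : d + 1 ≤ Nat.card W := by
      have h : Nat.card H ≤ Nat.card {v : W // v ≠ 0} := Nat.card_le_card_of_injective
        (fun h => ⟨⟨lin h x, hW h x hxW⟩, fun e => hx0 (by
          have e' : lin h x = 0 := congrArg Subtype.val e
          calc x = lin (h⁻¹ * h) x := by rw [inv_mul_cancel, hone]
          _ = lin h⁻¹ (lin h x) := by rw [← hlmul]; rfl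
          _ = 0 := by rw [e', map_zero])⟩)
        (fun h k e => hfix h k x hx0 (congrArg (fun z => ((z.1 : W) : V)) e))
      rw [Nat.card_eq_fintype_card (α := {v : W // v ≠ 0}), Fintype.card_subtype_compl,
        Fintype.card_subtype_eq, ← Nat.card_eq_fintype_card] at h
      have := Nat.card_pos (α := W)
      omega
    have h2 : d + Nat.card W ≤ 2 * d + 1 := by
      rw [← hVcard, hddef, ← Nat.card_sum]
      refine Nat.card_le_card_of_injective (Sum.elim (fun h => lin h y) (fun w : W => (w : V))) ?_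
      refine Function.Injective.sumElim (fun h k e => hfix h k y hy0 e) Subtype.val_injective ?_
      intro h w e
      refine hyW ?_
      have := hW h⁻¹ _ w.2
      rw [← e, ← Module.End.mul_apply, hlmul, inv_mul_cancel, hone] at this
      exact this
    have hdvd : Nat.card W ∣ Nat.card V := W.toAddSubgroup.card_addSubgroup_dvd_card
    rw [hVcard, show Nat.card W = d + 1 by omega] at hdvd
    have h3 : d + 1 ∣ 1 := (Nat.dvd_add_right hdvd).mp
      (show d + 1 ∣ 2 * d + 1 + 1 from ⟨2, by ring⟩)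
    have := Nat.le_of_dvd one_pos h3
    omega
  -- the field
  set C := Subalgebra.centralizer (ZMod p) (Set.range lin) with hC
  have memC : ∀ {x : Module.End (ZMod p) V}, x ∈ C ↔ ∀ h : H, lin h * x = x * lin h := fun {x} => by
    rw [hC, Subalgebra.mem_centralizer_iff]
    exact ⟨fun h k => h _ ⟨k, rfl⟩, by rintro h _ ⟨k, rfl⟩; exact h k⟩
  have hlC : ∀ h : H, lin h ∈ C := fun h => memC.mpr fun k => by
    rw [hlmul, hlmul, show k * h = h * k from Subtype.ext (hHcomm k k.2 h h.2)]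
  have hinj : ∀ x ∈ C, x ≠ 0 → Function.Injective x := by
    intro x hx hx0
    rw [← LinearMap.ker_eq_bot]
    refine (hirr _ ?_).resolve_right fun h => hx0 (LinearMap.ker_eq_top.mp h)
    intro h v hv
    rw [LinearMap.mem_ker, ← Module.End.mul_apply, ← memC.mp hx h, Module.End.mul_apply,
      LinearMap.mem_ker.mp hv, map_zero]
  haveI : Nontrivial V := by
    rw [← Finite.one_lt_card_iff_nontrivial, hVcard]; omega
  obtain ⟨v₁, hv₁⟩ := exists_ne (0 : V)
  haveI : Finite (Module.End (ZMod p) V) := Finite.of_injective (fun f => (f : V → V)) DFunLike.coe_injective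
  haveI : NoZeroDivisors C := ⟨fun {x y} hxy => by
    by_contra! hne
    have ha : (x : Module.End (ZMod p) V) ≠ 0 := fun e => hne.1 (Subtype.ext e)
    refine hne.2 (Subtype.ext (LinearMap.ext fun v => hinj x x.2 ha ?_))
    have := LinearMap.congr_fun (congrArg Subtype.val hxy) v
    simpa using this⟩
  haveI : Nontrivial C := ⟨⟨1, 0, fun e => hv₁ (by
    have := LinearMap.congr_fun (congrArg Subtype.val e) v₁
    simpa using this)⟩⟩
  haveI : IsDomain C := @NoZeroDivisors.to_isDomain _ (Subalgebra.toRing _) _ _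
  letI : Field C := (Finite.isDomain_to_isField C).toField
  have hev : Function.Bijective (fun x : C => (x : Module.End (ZMod p) V) v₁) := by
    let ev : C →ₗ[ZMod p] V :=
      { toFun := fun x => (x : Module.End (ZMod p) V) v₁
        map_add' := fun x y => rfl
        map_smul' := fun c x => rfl }
    refine ⟨?_, ?_⟩
    · intro x y hxy
      by_contra hne
      have hd' : (x : Module.End (ZMod p) V) - y ≠ 0 := fun e => hne (Subtype.ext (sub_eq_zero.mp e))
      refine hv₁ (hinj _ (C.sub_mem x.2 y.2) hd' ?_)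
      rw [map_zero, LinearMap.sub_apply]
      exact sub_eq_zero.mpr hxy
    · show Function.Surjective ev
      rw [← LinearMap.range_eq_top]
      refine (hirr _ ?_).resolve_left fun e => hv₁ ?_
      · rintro h _ ⟨x, rfl⟩
        exact ⟨⟨lin h * (x : Module.End (ZMod p) V), C.mul_mem (hlC h) x.2⟩, rfl⟩
      · have : v₁ ∈ LinearMap.range ev := ⟨1, rfl⟩
        rwa [e, Submodule.mem_bot] at this
  haveI : Fintype C := Fintype.ofFinite C
  have hCcard : Fintype.card C = p ^ f := by
    rw [← Nat.card_eq_fintype_card, Nat.card_eq_of_bijective _ hev, hVcard, hq]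
  let g : {k : Fin (p ^ f) // True} ≃ C :=
    (Equiv.subtypeUnivEquiv fun _ => trivial).trans (Fintype.equivFinOfCardEq hCcard).symm
  letI : Field {k : Fin (p ^ f) // True} := g.field
  let R : {k : Fin (p ^ f) // True} ≃+* C :=
    { g with map_add' := fun x y => g.apply_symm_apply (g x + g y), map_mul' := fun x y => g.apply_symm_apply (g x * g y) }
  let K := {k : Fin (p ^ f) // True}
  have hKcard : Fintype.card K = p ^ f := (Fintype.card_congr g).trans hCcard
  have hKcard' : Fintype.card K = 2 * d + 1 := hKcard.trans hq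
  let φ : K → Ω := fun x => τ ((R x : Module.End (ZMod p) V) v₁) • b
  have φinj : Function.Injective φ := fun x y h =>
    R.injective (hev.1 (hτi (hZ.translate_inj hab.symm (hτF _) (hτF _) h)))
  have φne : ∀ x, φ x ≠ a := fun x => hZ.ne_of_mem (hτF _) hab.symm
  have φsurj : ∀ y, y ≠ a → ∃ x, φ x = y := by
    intro y hy
    obtain ⟨u, hu, huy⟩ := hZ.exists_eq b y hab.symm hy
    obtain ⟨v, rfl⟩ := hτs u hu
    obtain ⟨x, hx⟩ := hev.2 v
    exact ⟨R.symm x, by show τ ((R (R.symm x) : Module.End (ZMod p) V) v₁) • b = y; rw [R.apply_symm_apply]; simp only at hx; rw [hx]; exact huy⟩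
  have φzero : φ 0 = b := by
    show τ ((R 0 : Module.End (ZMod p) V) v₁) • b = b
    rw [map_zero]
    show τ 0 • b = b
    rw [hτ0, one_smul]
  let cf : H → K := fun h => R.symm ⟨lin h, hlC h⟩
  have hφh : ∀ (h : H) x, (h : G) • φ x = φ (cf h * x) := fun h x => by
    show _ = τ ((R (cf h * x) : Module.End (ZMod p) V) v₁) • b
    rw [map_mul, R.apply_symm_apply]
    exact (hpt h _).symm
  have cf0 : ∀ h, cf h ≠ 0 := fun h e => by
    have h1 := hφh h 1
    rw [e, zero_mul, φzero] at h1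
    have : φ 1 = b := MulAction.injective (h : G) (h1.trans (hmemH h.2).2.symm)
    exact one_ne_zero (φinj (this.trans φzero.symm))
  have cfinj : Function.Injective cf := fun h k e =>
    hfix h k v₁ hv₁ (LinearMap.congr_fun (congrArg Subtype.val (R.symm.injective e)) v₁)
  have cf1 : cf 1 = 1 := by
    refine φinj ?_
    rw [← mul_one (cf 1), ← hφh, Subgroup.coe_one, one_smul]
  have cfmul : ∀ h k, cf (h * k) = cf h * cf k := fun h k => φinj (by
    rw [← mul_one (cf (h * k)), ← hφh, Subgroup.coe_mul, mul_smul, hφh k, hφh, mul_one])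
  let cfh : H →* K := { toFun := cf, map_one' := cf1, map_mul' := cfmul }
  have hchar : ringChar K ≠ 2 := fun h => by
    have := FiniteField.even_card_of_char_two h
    omega
  have hsq_iff : ∀ c : K, c ≠ 0 → (IsSquare c ↔ c ^ d = 1) := fun c hc => by
    rw [FiniteField.isSquare_iff hchar hc, hKcard', show (2 * d + 1) / 2 = d by omega]
  have cfsq : ∀ h, IsSquare (cf h) := fun h => (hsq_iff _ (cf0 h)).mpr (by
    show cfh h ^ d = 1
    rw [← map_pow, hddef, pow_card_eq_one', map_one])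
  have sqcf : ∀ c : K, c ≠ 0 → IsSquare c → ∃ h, cf h = c := by
    intro c hc hs
    haveI := Fintype.ofFinite H
    let S := Finset.univ.image cf
    have hS : S.card = d := by
      rw [Finset.card_image_of_injective _ cfinj, Finset.card_univ, hddef, Nat.card_eq_fintype_card]
    have hsub : S ⊆ (Polynomial.nthRoots d (1 : K)).toFinset := fun x hx => by
      obtain ⟨h, -, rfl⟩ := Finset.mem_image.mp hx
      rw [Multiset.mem_toFinset, Polynomial.mem_nthRoots (by omega)]
      exact (hsq_iff _ (cf0 h)).mp (cfsq h)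
    have heq := Finset.eq_of_subset_of_card_le hsub
      (((Multiset.toFinset_card_le _).trans (Polynomial.card_nthRoots d 1)).trans hS.ge)
    have : c ∈ S := by
      rw [heq, Multiset.mem_toFinset, Polynomial.mem_nthRoots (by omega)]
      exact (hsq_iff c hc).mp hs
    obtain ⟨h, -, hh⟩ := Finset.mem_image.mp this
    exact ⟨h, hh⟩
  have hadd : ∀ (u : G), u ∈ F → ∃ c : K, ∀ x, u • φ x = φ (c + x) := by
    intro u hu
    obtain ⟨v, rfl⟩ := hτs u hu
    obtain ⟨x₀, hx₀⟩ := hev.2 v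
    refine ⟨R.symm x₀, fun x => ?_⟩
    show τ v • τ _ • b = τ ((R (R.symm x₀ + x) : Module.End (ZMod p) V) v₁) • b
    rw [map_add, R.apply_symm_apply, ← mul_smul, ← hτadd]
    congr 3
    exact hx₀.symm
  -- the involution
  have hwwH : s₀ * s₀ ∈ H := Subgroup.mem_inf.mpr ⟨by rw [mem_stabilizer_iff, mul_smul, hs₀a, hs₀b],
    by rw [mem_stabilizer_iff, mul_smul, hs₀b, hs₀a]⟩
  set w := s₀ with hwdef
  have hww : w * w = 1 := by
    have h1 : w * w = (w * w)⁻¹ := by
      have e := hinv w hs₀a hs₀b _ hwwH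
      rwa [show w * (w * w) * w⁻¹ = w * w by group] at e
    have h2 : (w * w) ^ 2 = 1 := by
      rw [pow_two]
      nth_rewrite 2 [h1]
      rw [mul_inv_cancel]
    have h3 : (w * w) ^ d = 1 := congrArg Subtype.val (pow_card_eq_one' (x := (⟨w * w, hwwH⟩ : H)))
    obtain ⟨m, hm⟩ := hodd
    rw [show d = 2 * m + 1 from hm, pow_succ, pow_mul, h2, one_pow, one_mul] at h3
    exact h3
  have hwinv : w⁻¹ = w := inv_eq_of_mul_eq_one_right hww
  have hw1 : w ≠ 1 := fun e => hab (by rw [← hs₀a, e, one_smul])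
  have hfree : ∀ y : Ω, w • y ≠ y := fun y hy => by
    haveI := Z.two
    haveI : IsPretransitive G Ω := isPretransitive_of_is_two_pretransitive
    have hoddG : Odd (Nat.card (stabilizer G y)) := by
      have h1 := card_group hZ Z hab
      rw [← card_mul_card_stabilizer (G := G) y, Nat.card_eq_fintype_card (α := Ω)] at h1
      rw [Nat.eq_of_mul_eq_mul_left (Fintype.card_pos_iff.mpr ⟨a⟩) h1, ← hH, ← hddef,
        show Nat.card F = 2 * d + 1 by omega]
      exact (odd_two_mul_add_one d).mul hodd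
    have h2 : (⟨w, hy⟩ : stabilizer G y) ^ 2 = 1 := Subtype.ext (by
      rw [pow_two]; exact hww)
    have h3 : (⟨w, hy⟩ : stabilizer G y) ^ Nat.card (stabilizer G y) = 1 := pow_card_eq_one'
    obtain ⟨m, hm⟩ := hoddG
    rw [hm, pow_succ, pow_mul, h2, one_pow, one_mul] at h3
    exact hw1 (congrArg Subtype.val h3)
  have hs : ∀ x : K, ∃ y : K, x ≠ 0 → w • φ x = φ y ∧ y ≠ 0 := fun x => by
    by_cases hx : x = 0
    · exact ⟨0, fun h => absurd hx h⟩
    obtain ⟨y, hy⟩ := φsurj (w • φ x) fun e => hx (φinj ((MulAction.injective w (e.trans hs₀b.symm)).trans φzero.symm))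
    exact ⟨y, fun _ => ⟨hy.symm, fun hy0 => φne x (MulAction.injective w
      (by show w • φ x = w • a; rw [hs₀a, ← hy, hy0, φzero]))⟩⟩
  choose s hs using hs
  have hswap : ∀ {x : K}, x ≠ 0 → w • φ x = φ (s x) := fun hx => (hs _ hx).1
  have hs0 : ∀ {x : K}, x ≠ 0 → s x ≠ 0 := fun hx => (hs _ hx).2
  have hss : ∀ {x : K}, x ≠ 0 → s (s x) = x := fun {x} hx => φinj (by
    rw [← hswap (hs0 hx), ← hswap hx, smul_smul, hww, one_smul])
  have hsc : ∀ c x : K, c ^ d = 1 → c ≠ 0 → x ≠ 0 → s (c * x) = c⁻¹ * s x := by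
    intro c x hc hc0 hx
    obtain ⟨h, rfl⟩ := sqcf c hc0 ((hsq_iff c hc0).mpr hc)
    refine φinj ?_
    rw [← hswap (mul_ne_zero hc0 hx), ← hφh, show (cf h)⁻¹ = cf h⁻¹ from
      inv_eq_of_mul_eq_one_right (by rw [← cfmul, mul_inv_cancel, cf1]), ← hφh, ← hswap hx,
      Subgroup.coe_inv, ← hinv w hs₀a hs₀b h h.2, hwinv, mul_smul, mul_smul, ← mul_smul w w, hww, one_smul]
  set κ := s 1 with hκ
  have hκ0 : κ ≠ 0 := hs0 one_ne_zero
  have hnofix : ∀ x, x ≠ 0 → s x ≠ x := fun x hx h => hfree (φ x) (by rw [hswap hx, h])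
  have hκd : κ ^ d ≠ 1 := by
    intro h
    obtain ⟨m, hm⟩ := hodd
    refine hnofix (κ ^ (m + 1)) (pow_ne_zero _ hκ0) ?_
    have hc : (κ ^ (m + 1)) ^ d = 1 := by rw [← pow_mul, mul_comm, pow_mul, h, one_pow]
    have h2 := hsc _ 1 hc (pow_ne_zero _ hκ0) one_ne_zero
    rw [mul_one, ← hκ] at h2
    rw [h2, inv_mul_eq_iff_eq_mul₀ (pow_ne_zero _ hκ0), ← pow_add,
      show m + 1 + (m + 1) = d + 1 by rw [hddef, hH] at *; omega, pow_succ, h, one_mul]
  have hpd : ∀ x : K, x ≠ 0 → x ^ d = 1 ∨ x ^ d = -1 := fun x hx => by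
    have := FiniteField.pow_dichotomy hchar hx
    rwa [hKcard', show (2 * d + 1) / 2 = d by omega] at this
  have hall : ∀ x : K, x ≠ 0 → s x = κ / x := by
    intro x hx
    rcases hpd x hx with h | h
    · have := hsc x 1 h hx one_ne_zero
      rw [mul_one] at this
      rw [this, ← hκ, div_eq_inv_mul]
    · have hy : (κ / x) ^ d = 1 := by
        rw [div_pow, (hpd κ hκ0).resolve_left hκd, h, div_self (neg_ne_zero.mpr one_ne_zero)]
      have h2 := hsc (κ / x) 1 hy (div_ne_zero hκ0 hx) one_ne_zero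
      rw [mul_one, ← hκ, inv_div, div_mul_cancel₀ _ hκ0] at h2
      have := hss (x := κ / x) (div_ne_zero hκ0 hx)
      rw [h2] at this
      exact this
  have hκsq : IsSquare (-κ) := (hsq_iff _ (neg_ne_zero.mpr hκ0)).mpr (by
    rw [neg_pow, show d = Nat.card H from hddef, hodd.neg_one_pow, ← hddef, (hpd κ hκ0).resolve_left hκd,
      neg_one_mul, neg_neg])
  refine ⟨p, f, K, inferInstance, inferInstance, φ, w, κ, hp, hp2, hKcard, hKcard', hκ0, hκsq, φinj, φne,
    φsurj, φzero, hs₀a, hs₀b, fun x hx => by rw [hswap hx, hall x hx], hadd, fun g hga hgb => ?_⟩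
  exact ⟨cf ⟨g, Subgroup.mem_inf.mpr ⟨hga, hgb⟩⟩, cf0 _, cfsq _, fun x => hφh ⟨g, Subgroup.mem_inf.mpr ⟨hga, hgb⟩⟩ x⟩

theorem iso_psl_odd {K : Type} [Field K] [Fintype K] {φ : K → Ω} {w : G} {κ : K} (hZ : ZKer a F) (Z : ZGrp G Ω)
    (hab : a ≠ b) (hK : Fintype.card K = 2 * Nat.card ↥(stabilizer G a ⊓ stabilizer G b) + 1)
    (hκ0 : κ ≠ 0) (hκsq : IsSquare (-κ)) (C : OddCoord K a b F φ w κ) :
    Nonempty (G ≃* Matrix.ProjectiveSpecialLinearGroup (Fin 2) K) := by
  classical
  haveI := Z.faith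
  let ψ : ℙ K (Fin 2 → K) → Ω :=
    Projectivization.lift (fun v => if (v : Fin 2 → K) 1 = 0 then a else φ ((v : Fin 2 → K) 0 / (v : Fin 2 → K) 1))
      (by
        rintro ⟨v, hv⟩ ⟨u, hu⟩ c (rfl : v = c • u)
        have hc : c ≠ 0 := fun h => hv (by rw [h, zero_smul])
        by_cases h1 : u 1 = 0
        · simp [h1]
        · simp [h1, hc, mul_div_mul_left])
  have hψmk : ∀ v hv, ψ (Projectivization.mk _ v hv) = if v 1 = 0 then a else φ (v 0 / v 1) :=
    fun v hv => Projectivization.lift_mk _ _ _ _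
  have hψ : Function.Bijective ψ := by
    constructor
    · intro P Q h
      induction P using Projectivization.ind with | _ v hv =>
      induction Q using Projectivization.ind with | _ u hu =>
      rw [hψmk, hψmk] at h
      rw [LinGrp.mk_eq_mk_iff_crossTerm, LinGrp.crossTerm]
      by_cases h1 : v 1 = 0 <;> by_cases h2 : u 1 = 0 <;> simp only [h1, h2, if_true, if_false] at h
      · rw [h1, h2]; ring
      · exact absurd h.symm (C.ne _)
      · exact absurd h (C.ne _)
      · have h3 := C.inj h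
        field_simp at h3
        linear_combination h3
    · intro x
      by_cases hx : x = a
      · exact ⟨.mk _ ![1, 0] LinGrp.e1_ne, by rw [hψmk]; simp [hx]⟩
      · obtain ⟨k, rfl⟩ := C.surj x hx
        exact ⟨.mk _ ![k, 1] (LinGrp.diag_ne _), by rw [hψmk]; simp⟩
  have hchar : ringChar K ≠ 2 := fun h => by
    have := FiniteField.even_card_of_char_two h
    omega
  let Good : G → Prop := fun g => ∃ m : GL (Fin 2) K, IsSquare m.1.det ∧ ∀ Q, ψ (m • Q) = g • ψ Q
  have hgmul : ∀ g k, Good g → Good k → Good (g * k) := by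
    rintro g k ⟨m, pm, hm⟩ ⟨n, pn, hn⟩
    refine ⟨m * n, ?_, fun Q => by rw [mul_smul, hm, hn, mul_smul]⟩
    rw [GeneralLinearGroup.coe_mul, det_mul]
    exact pm.mul pn
  have hginv : ∀ g, Good g → Good g⁻¹ := by
    rintro g ⟨m, pm, hm⟩
    refine ⟨m⁻¹, ?_, fun Q => by rw [eq_inv_smul_iff, ← hm, smul_inv_smul]⟩
    rw [Matrix.coe_units_inv, det_nonsing_inv, Ring.inverse_eq_inv']
    exact pm.inv
  have hT : ∀ u ∈ F, Good u := by
    intro u hu
    obtain ⟨c, hc⟩ := C.translate u hu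
    refine ⟨GeneralLinearGroup.mkOfDetNeZero !![1, c; 0, 1] (by simp), ?_, fun Q => ?_⟩
    · simp [GeneralLinearGroup.mkOfDetNeZero]
    induction Q using Projectivization.ind with | _ v hv =>
    rw [Projectivization.smul_mk, hψmk, hψmk]
    by_cases h1 : v 1 = 0
    · simp [LinGrp.GL_smul_vec, GeneralLinearGroup.mkOfDetNeZero, h1, hZ.fix u hu]
    · simp [LinGrp.GL_smul_vec, GeneralLinearGroup.mkOfDetNeZero, h1]
      rw [hc]
      congr 1
      field_simp
      ring
  have hH : ∀ g : G, g • a = a → g • b = b → Good g := by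
    intro g ga gb
    obtain ⟨c, hc0, hcs, hc⟩ := C.dilate g ga gb
    refine ⟨GeneralLinearGroup.mkOfDetNeZero !![c, 0; 0, 1] (by simp [hc0]), ?_, fun Q => ?_⟩
    · simpa [GeneralLinearGroup.mkOfDetNeZero] using hcs
    induction Q using Projectivization.ind with | _ v hv =>
    rw [Projectivization.smul_mk, hψmk, hψmk]
    by_cases h1 : v 1 = 0
    · simp [LinGrp.GL_smul_vec, GeneralLinearGroup.mkOfDetNeZero, h1, ga]
    · simp [LinGrp.GL_smul_vec, GeneralLinearGroup.mkOfDetNeZero, h1, hc]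
      rw [mul_div_assoc]
  have hw : Good w := by
    refine ⟨GeneralLinearGroup.mkOfDetNeZero !![0, κ; 1, 0] (by simp [hκ0]), ?_, fun Q => ?_⟩
    · simpa [GeneralLinearGroup.mkOfDetNeZero] using hκsq
    induction Q using Projectivization.ind with | _ v hv =>
    rw [Projectivization.smul_mk, hψmk, hψmk]
    by_cases h1 : v 1 = 0
    · have h0 : v 0 ≠ 0 := fun h0 => hv (by ext k; fin_cases k <;> assumption)
      simp [LinGrp.GL_smul_vec, GeneralLinearGroup.mkOfDetNeZero, h1, h0, C.swap, C.zero]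
    · by_cases h0 : v 0 = 0
      · simp [LinGrp.GL_smul_vec, GeneralLinearGroup.mkOfDetNeZero, h1, h0, C.swap', C.zero]
      · simp [LinGrp.GL_smul_vec, GeneralLinearGroup.mkOfDetNeZero, h1, h0]
        rw [C.invol _ (div_ne_zero h0 h1), div_div_eq_mul_div]
  have hfixa : ∀ g : G, g • a = a → Good g := by
    intro g ga
    obtain ⟨t, ht, hto⟩ := hZ.exists_eq b (g • b) hab.symm
      (fun h => hab.symm (MulAction.injective g (h.trans ga.symm)))
    have := hgmul _ _ (hT t ht) (hH (t⁻¹ * g) (by rw [mul_smul, ga, inv_smul_eq_iff, hZ.fix t ht])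
      (by rw [mul_smul, inv_smul_eq_iff, hto]))
    rwa [mul_inv_cancel_left] at this
  have hall : ∀ g, Good g := by
    intro g
    by_cases ga : g • a = a
    · exact hfixa g ga
    obtain ⟨t, ht, hto⟩ := hZ.exists_eq b (g • a) hab.symm ga
    have h1 := hfixa (w * t⁻¹ * g) (by rw [mul_smul, mul_smul, ← hto, inv_smul_smul, C.swap'])
    have h2 := hgmul _ _ (hT t ht) (hgmul _ _ (hginv _ hw) h1)
    rwa [show t * (w⁻¹ * (w * t⁻¹ * g)) = g by group] at h2
  choose m hmP hm using hall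
  have hmk : ∀ (x : GL (Fin 2) K) (Q : ℙ K (Fin 2 → K)), ProjGenLinGroup.mk x • Q = x • Q := fun _ _ => rfl
  have huniq : ∀ (g : G) (n : GL (Fin 2) K), (∀ Q, ψ (n • Q) = g • ψ Q) →
      ProjGenLinGroup.mk n = ProjGenLinGroup.mk (m g) := by
    intro g n hn
    have hfix : ∀ Q : ℙ K (Fin 2 → K), ((m g)⁻¹ * n) • Q = Q := fun Q => by
      rw [mul_smul, inv_smul_eq_iff]
      exact hψ.1 ((hn Q).trans (hm g Q).symm)
    have h := LinGrp.PGL2_eq_one_of_fix (ProjGenLinGroup.mk ((m g)⁻¹ * n))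
      (LinGrp.stdTriple _ 0) (LinGrp.stdTriple _ 1) (LinGrp.stdTriple _ 2)
      (LinGrp.stdTriple_injective.ne (by decide)) (LinGrp.stdTriple_injective.ne (by decide))
      (LinGrp.stdTriple_injective.ne (by decide))
      ((hmk _ _).trans (hfix _)) ((hmk _ _).trans (hfix _)) ((hmk _ _).trans (hfix _))
    rw [map_mul, map_inv, inv_mul_eq_one] at h
    exact h.symm
  let Φ : G →* Matrix.ProjGenLinGroup (Fin 2) K := MonoidHom.mk' (fun g => ProjGenLinGroup.mk (m g))
    fun g k => by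
      rw [← map_mul]
      exact (huniq (g * k) _ fun Q => by rw [mul_smul, hm, hm, mul_smul]).symm
  have hΦ : Function.Injective Φ := fun g k h => FaithfulSMul.eq_of_smul_eq_smul (α := Ω) fun x => by
    obtain ⟨Q, rfl⟩ := hψ.2 x
    rw [← hm, ← hm]
    have : ProjGenLinGroup.mk (m g) • Q = ProjGenLinGroup.mk (m k) • Q := by
      rw [show ProjGenLinGroup.mk (m g) = ProjGenLinGroup.mk (m k) from h]
    exact congrArg ψ this
  have : Finite (Matrix.ProjGenLinGroup (Fin 2) K) :=
    Finite.of_surjective ProjGenLinGroup.mk ProjGenLinGroup.mk_surjective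
  have hle : Φ.range ≤ (Matrix.ProjectiveSpecialLinearGroup.toPGL :
      Matrix.ProjectiveSpecialLinearGroup (Fin 2) K →* _).range := by
    rintro _ ⟨g, rfl⟩
    obtain ⟨r, hr⟩ := hmP g
    have hdet : (m g).1.det ≠ 0 := ((m g).1.isUnit_iff_isUnit_det.1 (m g).isUnit).ne_zero
    have hr0 : r ≠ 0 := fun h => hdet (by rw [hr, h, zero_mul])
    let A : Matrix.SpecialLinearGroup (Fin 2) K :=
      ⟨r⁻¹ • (m g).1, by rw [det_smul, Fintype.card_fin, hr]; field_simp⟩
    refine ⟨(A : Matrix.ProjectiveSpecialLinearGroup (Fin 2) K), ?_⟩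
    show _ = ProjGenLinGroup.mk (m g)
    rw [Matrix.ProjectiveSpecialLinearGroup.toPGL_mk, ProjGenLinGroup.mk_eq_mk_iff]
    refine ⟨Units.mk0 r hr0, Units.ext ?_⟩
    simp [A, ← Matrix.mul_smul, ← Matrix.diagonal_smul, Pi.smul_def, smul_eq_mul,
      ← Matrix.smul_one_eq_diagonal, smul_smul, hr0]
    show r • (r⁻¹ • (m g).1) = (m g).1
    rw [smul_inv_smul₀ hr0]
  set d := Nat.card ↥(stabilizer G a ⊓ stabilizer G b) with hd
  have hF : Nat.card F = Fintype.card K := by
    have h1 := hZ.card_add_one hab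
    have h2 : Fintype.card K = Nat.card {y : Ω // y ≠ a} := by
      rw [← Nat.card_eq_fintype_card]
      exact Nat.card_eq_of_bijective (fun x => ⟨φ x, C.ne x⟩)
        ⟨fun x y h => C.inj (congrArg Subtype.val h), fun y => by
          obtain ⟨x, hx⟩ := C.surj y y.2; exact ⟨x, Subtype.ext hx⟩⟩
    rw [Nat.card_eq_fintype_card (α := {y : Ω // y ≠ a}), Fintype.card_subtype_compl,
      Fintype.card_subtype_eq] at h2
    omega
  have hG : Nat.card G = (Fintype.card K + 1) * Fintype.card K * d := by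
    rw [card_group hZ Z hab, ← hZ.card_add_one hab, hF, mul_assoc]
  have hpsl : Nat.card (Matrix.ProjectiveSpecialLinearGroup (Fin 2) K) = (Fintype.card K + 1) * Fintype.card K * d := by
    have h := LinGrp.natCard_PSL_mul (n := Fin 2) (F := K)
    have h2 : Fintype.card K - 1 = 2 * d := by omega
    rw [Fintype.card_fin, Nat.card_eq_fintype_card (α := K), natCard_SL_two_field K, h2,
      show Nat.gcd 2 (2 * d) = 2 from Nat.gcd_eq_left (dvd_mul_right 2 d)] at h
    · refine Nat.eq_of_mul_eq_mul_left two_pos ?_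
      rw [h]; ring
  have heq : Φ.range = (Matrix.ProjectiveSpecialLinearGroup.toPGL :
      Matrix.ProjectiveSpecialLinearGroup (Fin 2) K →* _).range := by
    refine Subgroup.eq_of_le_of_card_ge hle ?_
    rw [← Nat.card_congr (MonoidHom.ofInjective Matrix.ProjectiveSpecialLinearGroup.toPGL_injective).toEquiv,
      ← Nat.card_congr (MonoidHom.ofInjective hΦ).toEquiv, hpsl, hG]
  exact ⟨(MonoidHom.ofInjective hΦ).trans ((MulEquiv.subgroupCongr heq).trans
    (MonoidHom.ofInjective Matrix.ProjectiveSpecialLinearGroup.toPGL_injective).symm)⟩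

end Cfsg.Agent.ZassSharp.Odd
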