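import Cfsg.Agent.Lib.ZassSharp.Odd.Bound
import Cfsg.Agent.Lib.ZassSharp.Odd.Psl
import Cfsg.Agent.Lib.ZassNormal.Basic
import Cfsg.Agent.S0739

/-!
# Zassenhaus groups with abelian kernel and two-point stabilisers of odd order
-/

set_option autoImplicit false
set_option linter.all false

namespace Cfsg.Agent.ZassSharp.Odd

open MulAction PermGp PermGp.ZEven

universe u v

/-- The facts needed for the odd case. -/
theorem bound_and_inversion (m : ℕ) : ∀ {G : Type u} {Ω : Type v} [Group G] [Finite G] [MulAction G Ω] [Fintype Ω],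
    Nat.card G = m → Cfsg.IsZassenhausGroup G Ω → ∀ {a b : Ω} {F : Subgroup G}, Setting G Ω a b F →
    Odd (Nat.card ↥(stabilizer G a ⊓ stabilizer G b)) →
    Nat.card F - 1 ≤ 2 * Nat.card ↥(stabilizer G a ⊓ stabilizer G b) ∧
      ∀ s : G, s • a = b → s • b = a → ∀ h ∈ stabilizer G a ⊓ stabilizer G b, s * h * s⁻¹ = h⁻¹ := by
  induction m using Nat.strong_induction_on with
  | _ m IH => ?_
  intro G Ω _ _ _ _ hG hZ a b F S hodd
  set H := stabilizer G a ⊓ stabilizer G b with hH
  set d := Nat.card H with hd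
  have hn3 := S.three_le
  have hnil : ∀ q : ℕ, q.Prime → q ∣ d →
      ¬ ∃ N : Subgroup G, N.Normal ∧ N.index = q ^ (Nat.card G).factorization q := by
    rintro q hq hqd ⟨N, hN, hidx⟩
    haveI := hN
    have hdn := S.dvd_sub_one
    rw [← hH, ← hd] at hdn
    have hqn : ¬ q ∣ Nat.card F := fun h => by
      have h1 : q ∣ 1 := by
        have := Nat.dvd_sub h (hqd.trans hdn)
        rwa [show Nat.card F - (Nat.card F - 1) = 1 by omega] at this
      exact hq.one_lt.ne' (Nat.dvd_one.mp h1)
    have hFN : F ≤ N := fun x hx => by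
      have h1 : orderOf (QuotientGroup.mk x : G ⧸ N) ∣ q ^ (Nat.card G).factorization q := by
        rw [← hidx, Subgroup.index_eq_card]; exact orderOf_dvd_natCard _
      have h2 : orderOf (QuotientGroup.mk x : G ⧸ N) ∣ Nat.card F := by
        refine (orderOf_map_dvd (QuotientGroup.mk' N) x).trans ?_
        rw [show orderOf x = orderOf (⟨x, hx⟩ : F) from (Subgroup.orderOf_coe ⟨x, hx⟩)]
        exact orderOf_dvd_natCard _
      have h3 := Nat.eq_one_of_dvd_coprimes ((Nat.Prime.coprime_iff_not_dvd hq).mpr hqn |>.pow_left _) h1 h2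
      exact (QuotientGroup.eq_one_iff x).mp (orderOf_eq_one_iff.mp h3)
    obtain ⟨u, hu, hu1⟩ : ∃ u ∈ F, u ≠ 1 := by
      by_contra! hall
      have : F = ⊥ := (Subgroup.eq_bot_iff_forall _).mpr hall
      rw [this, Subgroup.card_bot] at hn3
      omega
    have hNne : N ≠ ⊥ := fun h => hu1 (by simpa [h] using hFN hu)
    have hvq : q ∣ q ^ (Nat.card G).factorization q := dvd_pow_self _ (by
      have h1 : q ∣ Nat.card G := hqd.trans (hd ▸ H.card_subgroup_dvd_card)
      exact (Nat.Prime.factorization_pos_of_dvd hq Nat.card_pos.ne' h1).ne')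
    have hNcard := N.card_mul_index
    rw [hidx] at hNcard
    have hNlt : Nat.card N < m := by
      rw [← hG, ← hNcard]
      exact lt_mul_of_one_lt_right Nat.card_pos
        (lt_of_lt_of_le hq.one_lt (Nat.le_of_dvd (pow_pos hq.pos _) hvq))
    have hqN : ¬ q ∣ Nat.card N := fun h => by
      have h1 : q ^ ((Nat.card G).factorization q + 1) ∣ Nat.card N * q ^ (Nat.card G).factorization q := by
        rw [pow_succ']
        exact Nat.mul_dvd_mul h dvd_rfl
      rw [hNcard] at h1
      have := (hq.pow_dvd_iff_le_factorization Nat.card_pos.ne').mp h1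
      omega
    have ZN := ZassNormal.normal_zassenhaus hZ N hNne
    have SN : Setting N Ω a b (F.subgroupOf N) :=
      { ker :=
          { fix := fun x hx => S.ker.fix (x : G) hx
            conj := fun g hg x hx => S.ker.conj (g : G) hg (x : G) hx
            exists_eq := fun y z hy hz => by
              obtain ⟨x, hx, hxy⟩ := S.ker.exists_eq y z hy hz
              exact ⟨⟨x, hFN hx⟩, hx, hxy⟩
            semi := fun x hx y hy hxy => Subtype.ext (S.ker.semi (x : G) hx y hy hxy) }
        grp := zgrp_of_zassenhaus ZN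
        ne := S.ne
        comm := fun x hx y hy => Subtype.ext (S.comm (x : G) hx (y : G) hy) }
    have hHN : stabilizer N a ⊓ stabilizer N b = H.subgroupOf N := by
      ext x; exact Iff.rfl
    have hdN : Nat.card ↥(stabilizer N a ⊓ stabilizer N b) ∣ d := by
      rw [hHN, hd, ← Subgroup.inf_subgroupOf_right H N,
        Nat.card_congr (Subgroup.subgroupOfEquivOfLe (inf_le_right : H ⊓ N ≤ N)).toEquiv]
      exact Subgroup.card_dvd_of_le inf_le_left
    have hqdN : ¬ q ∣ Nat.card ↥(stabilizer N a ⊓ stabilizer N b) := fun h =>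
      hqN (h.trans (Subgroup.card_subgroup_dvd_card _))
    obtain ⟨k, hk⟩ := hdN
    have hk3 : 3 ≤ k := by
      have hko : Odd k := (Nat.odd_mul.mp (hk ▸ hodd)).2
      rcases Nat.lt_or_ge k 2 with h | h
      · obtain rfl : k = 1 := by obtain ⟨j, hj⟩ := hko; omega
        rw [mul_one] at hk
        exact absurd (hk ▸ hqd) hqdN
      · obtain ⟨j, hj⟩ := hko; omega
    have hIH := (IH _ hNlt rfl ZN SN (Nat.odd_mul.mp (hk ▸ hodd)).1).1
    rw [Nat.card_congr (Subgroup.subgroupOfEquivOfLe hFN).toEquiv] at hIH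
    have h2 := Nat.le_of_dvd (by omega) hdn
    rw [hk] at h2
    have h3 := Nat.mul_le_mul_left (Nat.card ↥(stabilizer N a ⊓ stabilizer N b)) hk3
    have hpos : 0 < Nat.card ↥(stabilizer N a ⊓ stabilizer N b) := Nat.card_pos
    omega
  obtain ⟨-, -, hinv⟩ := S0739.result hZ S.ne hodd hnil
  refine ⟨?_, hinv⟩
  haveI := Fintype.ofFinite G
  exact S.at_most_two hodd hinv

end Cfsg.Agent.ZassSharp.Odd
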