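import Cfsg.Agent.Lib.PermGp.PrimeSucc.Count

/-!
# Parameters of a character table with almost constant Gram matrix
-/

set_option autoImplicit false
set_option linter.all false

namespace Cfsg.Agent.ZassSharp.Odd

/-- Rows with Gram matrix `d + δ`: all differ in a star. -/
theorem exists_star_two {ι Q : Type*} [Fintype ι] [DecidableEq ι] [Fintype Q] [DecidableEq Q]
    (v : Q → ι → ℤ) (deg : ι → ℕ) (d : ℤ) (hpos : ∀ χ, 0 < deg χ) (hQ : 2 ≤ Fintype.card Q)
    (gram : ∀ q q', ∑ χ, v q χ * v q' χ = d + if q = q' then 1 else 0)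
    (hdeg : ∀ q q', ∑ χ, v q χ * (deg χ : ℤ) = ∑ χ, v q' χ * (deg χ : ℤ)) :
    ∃ (ε : ℤ) (e : Q → ι) (m : ι → ℤ), (ε = 1 ∨ ε = -1) ∧ Function.Injective e ∧
      (∀ q q', deg (e q) = deg (e q')) ∧ ∀ q χ, v q χ = m χ + if χ = e q then ε else 0 := by
  obtain ⟨q₀⟩ : Nonempty Q := Fintype.card_pos_iff.mp (by omega)
  have hD : ∀ q, q ≠ q₀ → ∃ P M, P ≠ M ∧ deg P = deg M ∧
      ∀ χ, v q χ - v q₀ χ = (if χ = P then 1 else 0) - (if χ = M then 1 else 0) := fun q hq => by
    refine PermGp.PrimeSucc.exists_pair_of_sum_sq_two (fun χ => v q χ - v q₀ χ) deg hpos ?_ ?_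
    · simp only [mul_sub, sub_mul, Finset.sum_sub_distrib, gram, if_true, if_neg hq,
        if_neg (Ne.symm hq)]
      ring
    · simp only [sub_mul, Finset.sum_sub_distrib, hdeg q q₀, sub_self]
  choose P M hPM hdegPM hv using hD
  have hpair : ∀ q q' (hq : q ≠ q₀) (hq' : q' ≠ q₀), q ≠ q' →
      (P q hq = P q' hq' ∧ M q hq ≠ M q' hq') ∨ (P q hq ≠ P q' hq' ∧ M q hq = M q' hq') := by
    intro q q' hq hq' hne
    have h1 : ∑ χ, (v q χ - v q₀ χ) * (v q' χ - v q₀ χ) = 1 := by
      simp only [mul_sub, sub_mul, Finset.sum_sub_distrib, gram, if_true, if_neg hq,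
        if_neg (Ne.symm hq'), if_neg hne]
      ring
    simp only [hv q hq, hv q' hq'] at h1
    simp only [sub_mul, mul_sub, Finset.sum_sub_distrib, ite_mul, one_mul, zero_mul,
      Finset.sum_ite_eq', Finset.mem_univ, if_true] at h1
    have := hPM q hq
    have := hPM q' hq'
    split_ifs at h1 <;> simp_all
  have hcase : (∀ q q' hq hq', P q hq = P q' hq') ∨ (∀ q q' hq hq', M q hq = M q' hq') := by
    by_contra! hcon
    obtain ⟨⟨a, b, ha, hb, hab⟩, ⟨c, e, hc, he, hce⟩⟩ := hcon
    have hne : a ≠ b := fun h => hab (by subst h; rfl)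
    have hne' : c ≠ e := fun h => hce (by subst h; rfl)
    have hMab : M a ha = M b hb := ((hpair a b ha hb hne).resolve_left fun h => hab h.1).2
    have hPce : P c hc = P e he := ((hpair c e hc he hne').resolve_right fun h => hce h.2).1
    -- every further index shares the sink of `a`
    have hall : ∀ x (hx : x ≠ q₀), M x hx = M a ha := by
      intro x hx
      rcases eq_or_ne x a with rfl | hxa
      · rfl
      rcases eq_or_ne x b with rfl | hxb
      · exact hMab.symm
      rcases hpair x a hx ha hxa with ⟨h1, h2⟩ | ⟨-, h2⟩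
      · rcases hpair x b hx hb hxb with ⟨h3, -⟩ | ⟨-, h4⟩
        · exact absurd (h1.symm.trans h3) hab
        · exact absurd (h4.trans hMab.symm) h2
      · exact h2
    exact hce ((hall c hc).trans (hall e he).symm)
  obtain ⟨q₁, hq₁⟩ := Fintype.exists_ne_of_one_lt_card (by omega) q₀
  rcases hcase with hP | hM
  · refine ⟨-1, fun q => if hq : q = q₀ then P q₁ hq₁ else M q hq,
      fun χ => v q₀ χ + if χ = P q₁ hq₁ then 1 else 0, Or.inr rfl, ?_, ?_, ?_⟩
    · intro q q' h
      by_cases hq : q = q₀ <;> by_cases hq' : q' = q₀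
      · rw [hq, hq']
      · simp only [hq, hq', dite_true, dite_false] at h
        exact absurd ((hP q' q₁ hq' hq₁).trans h) (hPM q' hq')
      · simp only [hq, hq', dite_true, dite_false] at h
        exact absurd ((hP q q₁ hq hq₁).trans h.symm) (hPM q hq)
      · simp only [hq, hq', dite_false] at h
        by_contra hne
        rcases hpair q q' hq hq' hne with ⟨-, h2⟩ | ⟨h2, -⟩
        · exact h2 h
        · exact h2 (hP q q' hq hq')
    · have key : ∀ q, deg (if hq : q = q₀ then P q₁ hq₁ else M q hq) = deg (P q₁ hq₁) := fun q => by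
        by_cases hq : q = q₀
        · simp only [hq, dite_true]
        · simp only [hq, dite_false]; rw [← hdegPM q hq, hP q q₁ hq hq₁]
      intro q q'
      exact (key q).trans (key q').symm
    · intro q χ
      by_cases hq : q = q₀
      · simp only [hq, dite_true]; split_ifs <;> ring
      · simp only [hq, dite_false]
        have := hv q hq χ
        rw [hP q q₁ hq hq₁] at this
        split_ifs at this ⊢ <;> linarith
  · refine ⟨1, fun q => if hq : q = q₀ then M q₁ hq₁ else P q hq,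
      fun χ => v q₀ χ - if χ = M q₁ hq₁ then 1 else 0, Or.inl rfl, ?_, ?_, ?_⟩
    · intro q q' h
      by_cases hq : q = q₀ <;> by_cases hq' : q' = q₀
      · rw [hq, hq']
      · simp only [hq, hq', dite_true, dite_false] at h
        exact absurd (h.symm.trans (hM q₁ q' hq₁ hq')) (hPM q' hq')
      · simp only [hq, hq', dite_true, dite_false] at h
        exact absurd (h.trans (hM q₁ q hq₁ hq)) (hPM q hq)
      · simp only [hq, hq', dite_false] at h
        by_contra hne
        rcases hpair q q' hq hq' hne with ⟨-, h2⟩ | ⟨h2, -⟩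
        · exact h2 (hM q q' hq hq')
        · exact h2 h
    · have key : ∀ q, deg (if hq : q = q₀ then M q₁ hq₁ else P q hq) = deg (M q₁ hq₁) := fun q => by
        by_cases hq : q = q₀
        · simp only [hq, dite_true]
        · simp only [hq, dite_false]; rw [hdegPM q hq, hM q q₁ hq hq₁]
      intro q q'
      exact (key q).trans (key q').symm
    · intro q χ
      by_cases hq : q = q₀
      · simp only [hq, dite_true]; split_ifs <;> ring
      · simp only [hq, dite_false]
        have := hv q hq χ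
        rw [hM q q₁ hq hq₁] at this
        split_ifs at this ⊢ <;> linarith

/-- The possible parameters of a table. -/
theorem table_parameters {ι Q : Type*} [Fintype ι] [DecidableEq ι] [Fintype Q] [DecidableEq Q]
    {p d t : ℕ} (ht : Fintype.card Q = t) (ht4 : 3 ≤ t) (hd : 2 ≤ d)
    (htd : t * d + 1 = p) (v : Q → ι → ℤ) (N : ι → ℤ) (deg : ι → ℕ) (ψ : ι)
    (hpos : ∀ χ, 0 < deg χ) (hdvd : ∀ χ, deg χ ∣ (p + 1) * p * d)
    (gram : ∀ q q', ∑ χ, v q χ * v q' χ = (d : ℤ) + if q = q' then 1 else 0)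
    (gram0 : ∀ q, ∑ χ, N χ * v q χ = (d : ℤ))
    (hdeg : ∀ q q', ∑ χ, v q χ * (deg χ : ℤ) = ∑ χ, v q' χ * (deg χ : ℤ))
    (hsum : ∀ χ, (deg χ : ℤ) = N χ + d * ∑ q, v q χ)
    (hspec : ∀ χ, N χ ≠ 0 → ∀ q q', v q χ = v q' χ ∧
      2 * (v q χ * v q χ) - N χ * v q χ = if χ = ψ then 1 else 0)
    (hψ : N ψ ≠ 0) : d + 3 = 2 * t ∧ p = (2 * t - 1) * (t - 1) := by
  obtain ⟨ε, e, m, hε, he, hedeg, hv⟩ := exists_star_two v deg d hpos (by omega) gram hdeg
  obtain ⟨q₀⟩ : Nonempty Q := Fintype.card_pos_iff.mp (by omega)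
  obtain ⟨q₁, hq₁⟩ := Fintype.exists_ne_of_one_lt_card (by omega) q₀
  have hε0 : ε ≠ 0 := by rcases hε with h | h <;> omega
  have hε2 : ε * ε = 1 := by rcases hε with h | h <;> rw [h] <;> norm_num
  -- the exceptional rows
  have hNe : ∀ q, N (e q) = 0 := fun q => by
    by_contra hN
    obtain ⟨q', hq'⟩ := Fintype.exists_ne_of_one_lt_card (by omega : 1 < Fintype.card Q) q
    have h1 := (hspec (e q) hN q q').1
    rw [hv, hv, if_pos rfl, if_neg (fun h => hq' (he h).symm), add_zero] at h1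
    omega
  have hsum_e : ∀ q, (deg (e q) : ℤ) = d * (t * m (e q) + ε) := fun q => by
    rw [hsum, hNe, zero_add]
    congr 1
    simp only [hv]
    rw [Finset.sum_add_distrib, Finset.sum_const, Finset.card_univ, ht]
    simp [he.eq_iff]
  set c := m (e q₀) with hc
  have hmc : ∀ q, m (e q) = c := fun q => by
    have h := hsum_e q
    rw [hedeg q q₀, hsum_e q₀] at h
    have := mul_left_cancel₀ (by omega : (d : ℤ) ≠ 0) h
    have h3 : (t : ℤ) * m (e q) = t * c := by linarith
    exact mul_left_cancel₀ (by omega : (t : ℤ) ≠ 0) h3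
  set E := Finset.univ.image e with hE
  have hEcard : E.card = t := by rw [hE, Finset.card_image_of_injective _ he, Finset.card_univ, ht]
  have hmE : ∀ χ ∈ E, m χ = c := fun χ hχ => by
    obtain ⟨q, -, rfl⟩ := Finset.mem_image.mp hχ
    exact hmc q
  have hvout : ∀ q χ, χ ∉ E → v q χ = m χ := fun q χ hχ => by
    rw [hv, if_neg (by rintro rfl; exact hχ (Finset.mem_image_of_mem e (Finset.mem_univ q))), add_zero]
  -- the other rows with `N = 0` vanish
  have hzero : ∀ χ, χ ∉ E → N χ = 0 → m χ = 0 := by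
    intro χ hχ hN
    have h := hsum χ
    simp only [hvout _ χ hχ, Finset.sum_const, Finset.card_univ, ht, hN, zero_add, nsmul_eq_mul] at h
    by_contra hm
    have hdvd' : t * d ∣ deg χ := by
      have h2 : ((t * d : ℕ) : ℤ) ∣ (deg χ : ℤ) := ⟨m χ, by rw [h]; push_cast; ring⟩
      exact_mod_cast h2
    have h1 := hdvd'.trans (hdvd χ)
    rw [mul_comm t d, mul_comm ((p + 1) * p) d, Nat.mul_dvd_mul_iff_left (by omega)] at h1
    have hcop : Nat.Coprime t p := by
      rw [← htd, Nat.coprime_mul_left_add_right]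
      exact Nat.coprime_one_right t
    have h3 := hcop.dvd_of_dvd_mul_right h1
    rw [← htd, add_assoc] at h3
    have h4 : t ∣ 2 := (Nat.dvd_add_right (dvd_mul_right t d)).mp h3
    have := Nat.le_of_dvd two_pos h4
    omega
  -- the sums
  have hmq : ∀ q χ, v q χ = m χ + if χ = e q then ε else 0 := hv
  have hS1 : ∑ χ, m χ * m χ + 2 * ε * c = d := by
    have h := gram q₁ q₀
    rw [if_neg hq₁, add_zero] at h
    simp only [hmq, add_mul, mul_add, Finset.sum_add_distrib, ite_mul, mul_ite, zero_mul,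
      mul_zero, Finset.sum_ite_eq', Finset.mem_univ, if_true, hmc] at h
    rw [if_neg (fun h' => hq₁ (he h').symm)] at h
    rw [← h]; ring
  have hS2 : ∑ χ, N χ * m χ = d := by
    have h := gram0 q₀
    simp only [hmq, mul_add, Finset.sum_add_distrib, mul_ite, mul_zero, Finset.sum_ite_eq',
      Finset.mem_univ, if_true, hNe, zero_mul, add_zero] at h
    exact h
  have hψE : ψ ∉ E := fun h => by
    obtain ⟨q, -, hq⟩ := Finset.mem_image.mp h
    exact hψ (hq ▸ hNe q)
  have hS3 : ∑ χ, (2 * (m χ * m χ) - N χ * m χ) = 1 + t * (2 * (c * c)) := by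
    rw [← Finset.sum_add_sum_compl E, add_comm]
    congr 1
    · rw [Finset.sum_congr rfl (g := fun χ => if χ = ψ then 1 else 0) fun χ hχ => ?_]
      · simp [hψE]
      · have hχE : χ ∉ E := Finset.mem_compl.mp hχ
        by_cases hN : N χ = 0
        · rw [if_neg (by rintro rfl; exact hψ hN), hzero χ hχE hN, hN]; ring
        · have h := (hspec χ hN q₀ q₀).2
          rwa [hvout q₀ χ hχE] at h
    · rw [Finset.sum_congr rfl (g := fun _ => 2 * (c * c)) fun χ hχ => ?_, Finset.sum_const, hEcard,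
        nsmul_eq_mul]
      obtain ⟨q, -, rfl⟩ := Finset.mem_image.mp hχ
      rw [hmc, hNe]; ring
  rw [Finset.sum_sub_distrib, ← Finset.mul_sum, hS2] at hS3
  set q := (t : ℤ) * c + ε with hq
  have hq2 : 2 * (q * q) = t * ((d : ℤ) - 1) + 2 := by
    rw [hq]
    linear_combination (t : ℤ) * (2 * hS1 - hS3) + 2 * hε2
  have hdegq : (deg (e q₀) : ℤ) = d * q := hsum_e q₀
  have hqpos : 0 < q := by
    have := hpos (e q₀)
    by_contra hneg
    nlinarith
  obtain ⟨r, hr⟩ : ∃ r : ℕ, q = r := ⟨q.toNat, by omega⟩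
  rw [hr] at hq2 hdegq hqpos hq
  have hrdvd : r ∣ (p + 1) * p := by
    have h1 : deg (e q₀) = d * r := by exact_mod_cast hdegq
    have := hdvd (e q₀)
    rw [h1, mul_comm ((p + 1) * p) d] at this
    exact (Nat.mul_dvd_mul_iff_left (by omega)).mp this
  have hqc : (r : ℤ) = t * c + ε := hq
  have hp2 : (p : ℤ) = 2 * (r * r) + t - 1 := by
    have h2 : (t : ℤ) * d + 1 = p := by exact_mod_cast htd
    linear_combination -h2 - hq2
  have hcop_rt : Nat.Coprime r t := by
    have h1 : IsCoprime (r : ℤ) t := ⟨ε, -(ε * c), by linear_combination ε * hqc + hε2⟩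
    exact Nat.isCoprime_iff_coprime.mp h1
  have hr1 : r ∣ p := by
    refine (Nat.Coprime.dvd_of_dvd_mul_left ?_ hrdvd)
    have e : p + 1 = t + 2 * r * r := by
      have : ((p + 1 : ℕ) : ℤ) = ((t + 2 * r * r : ℕ) : ℤ) := by push_cast; linarith
      exact_mod_cast this
    rw [e, Nat.coprime_add_mul_right_right]
    exact hcop_rt
  have hr2 : (r : ℤ) ∣ (t : ℤ) - 1 := by
    have h1 : (r : ℤ) ∣ p := Int.natCast_dvd_natCast.mpr hr1
    have h2 : (r : ℤ) ∣ 2 * (r * r) := ⟨2 * r, by ring⟩
    have := dvd_sub h1 h2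
    rwa [hp2, show 2 * ((r : ℤ) * r) + t - 1 - 2 * (r * r) = t - 1 by ring] at this
  have hrle : (r : ℤ) ≤ (t : ℤ) - 1 := Int.le_of_dvd (by omega) hr2
  have hd' : (2 : ℤ) ≤ d := by exact_mod_cast hd
  have ht' : (3 : ℤ) ≤ t := by exact_mod_cast ht4
  have hεb : -1 ≤ ε ∧ ε ≤ 1 := by rcases hε with h | h <;> omega
  have hc0 : c ≠ 0 := fun h => by
    rw [h, mul_zero, zero_add] at hqc
    have : (r : ℤ) = 1 := by omega
    rw [this] at hq2
    nlinarith
  have hc1 : c = 1 := by
    rcases lt_trichotomy c 0 with h | h | h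
    · nlinarith
    · exact absurd h hc0
    · nlinarith
  rw [hc1, mul_one] at hqc
  have hrt : (r : ℤ) = (t : ℤ) - 1 := by omega
  rw [hrt] at hq2 hp2
  have hdt : (d : ℤ) + 3 = 2 * t := mul_left_cancel₀ (show (t : ℤ) ≠ 0 by omega) (by linear_combination -hq2)
  refine ⟨by omega, ?_⟩
  have : (p : ℤ) = (((2 * t - 1) * (t - 1) : ℕ) : ℤ) := by
    rw [Nat.cast_mul, Nat.cast_sub (by omega), Nat.cast_sub (by omega)]
    push_cast
    linear_combination hp2
  exact_mod_cast this

end Cfsg.Agent.ZassSharp.Odd
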