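import Cfsg.Agent.Lib.ZassSharp.Odd.Special
import Cfsg.Agent.Lib.ZassSharp.Odd.Table
import Cfsg.Agent.Lib.CT.Integral
import Mathlib.GroupTheory.Perm.Cycle.Type

/-!
# At most two orbits on the kernel
-/

set_option autoImplicit false
set_option linter.all false

namespace Cfsg.Agent.ZassSharp.Odd

open MulAction Cfsg PermGp PermGp.ZEven

universe u v

variable {G : Type u} {Ω : Type v} [Group G] [MulAction G Ω] [Fintype G] [Fintype Ω] {a b : Ω} {F : Subgroup G}

local notation "H" => (stabilizer G a ⊓ stabilizer G b : Subgroup G)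

theorem Setting.dual_free (S : Setting G Ω a b F) {f : F →* ℂˣ} (hf : f ≠ 1) {h : H} (e : f.comp (S.cj h) = f) :
    h = 1 := by
  by_contra hh
  refine hf (MonoidHom.ext fun v => ?_)
  let ψ : F → F := fun u => S.cj h u * u⁻¹
  have hψ : Function.Bijective ψ := by
    rw [Finite.injective_iff_bijective.symm]
    intro u u' e'
    have e2 : S.cj h (u'⁻¹ * u) = u'⁻¹ * u := by
      rw [map_mul, map_inv]
      calc (S.cj h u')⁻¹ * S.cj h u = (S.cj h u')⁻¹ * (S.cj h u * u⁻¹) * u := by group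
        _ = u'⁻¹ * u := by rw [show S.cj h u * u⁻¹ = S.cj h u' * u'⁻¹ from e']; group
    by_contra hne
    exact hh (S.cj_fix (fun h0 => hne (inv_mul_eq_one.mp h0).symm) e2)
  obtain ⟨u, rfl⟩ := hψ.2 v
  show f (S.cj h u * u⁻¹) = 1
  rw [map_mul, map_inv, mul_inv_eq_one]
  exact DFunLike.congr_fun e u

/-- A small subgroup of the kernel cannot be invariant. -/
theorem Setting.no_small (S : Setting G Ω a b F) {t : ℕ} (ht : 3 ≤ t) (hd : Nat.card H + 3 = 2 * t)
    (hn : Nat.card F = (2 * t - 1) * (t - 1)) : False := by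
  obtain ⟨p, hp, hpd⟩ := Nat.exists_prime_and_dvd (show t - 1 ≠ 1 by omega)
  haveI := Fact.mk hp
  haveI := Fintype.ofFinite F
  let K : Subgroup F :=
    { carrier := {x | x ^ (t - 1) = 1}
      one_mem' := one_pow _
      mul_mem' := fun {x y} hx hy => by
        show (x * y) ^ (t - 1) = 1
        rw [(show Commute x y from S.hc x y).mul_pow, hx, hy, one_mul]
      inv_mem' := fun {x} hx => by show x⁻¹ ^ (t - 1) = 1; rw [inv_pow, hx, inv_one] }
  have hmem : ∀ x : F, x ∈ K ↔ x ^ (t - 1) = 1 := fun x => Iff.rfl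
  have hcop : Nat.Coprime (Nat.card K) (2 * t - 1) := Nat.coprime_of_dvd fun r hr hr1 hr2 => by
    haveI := Fact.mk hr
    obtain ⟨x, hx⟩ := exists_prime_orderOf_dvd_card' (G := K) r hr1
    have h1 : r ∣ t - 1 := by
      rw [← hx]
      exact orderOf_dvd_of_pow_eq_one (Subtype.ext (by rw [Subgroup.coe_pow]; exact (hmem _).mp x.2))
    have h2 : r ∣ 1 := by
      have := Nat.dvd_sub hr2 (h1.mul_left 2)
      rwa [show 2 * t - 1 - 2 * (t - 1) = 1 by omega] at this
    exact hr.one_lt.ne' (Nat.dvd_one.mp h2)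
  have hK : Nat.card K ≤ t - 1 := by
    refine Nat.le_of_dvd (by omega) (hcop.dvd_of_dvd_mul_left ?_)
    rw [← hn]
    exact K.card_subgroup_dvd_card
  obtain ⟨u, hu⟩ := exists_prime_orderOf_dvd_card' (G := F) p (hn ▸ hpd.mul_left _)
  have hu1 : u ≠ 1 := fun e => hp.one_lt.ne (by rw [← hu, e, orderOf_one])
  have huK : u ∈ K := (hmem u).mpr (orderOf_dvd_iff_pow_eq_one.mp (hu ▸ hpd))
  have hle : Nat.card H ≤ Nat.card {x : K // x ≠ 1} := by
    refine Nat.card_le_card_of_injective (fun h : H => (⟨⟨S.cj h u, (hmem _).mpr (by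
      rw [← map_pow, (hmem u).mp huK, map_one])⟩,
      fun e => hu1 (S.cj_eq_one.mp (congrArg Subtype.val e))⟩ : {x : K // x ≠ 1})) fun h k e => ?_
    have e' : S.cj h u = S.cj k u := congrArg (fun z : {x : K // x ≠ 1} => (z.1 : F)) e
    refine (inv_mul_eq_one.mp (S.cj_fix hu1 (h := k⁻¹ * h) ?_)).symm
    rw [S.cj_mul, e', ← S.cj_mul, inv_mul_cancel, S.cj_one]
  classical
  haveI := Fintype.ofFinite K
  rw [Nat.card_eq_fintype_card (α := {x : K // x ≠ 1}), Fintype.card_subtype_compl, Fintype.card_subtype_eq,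
    ← Nat.card_eq_fintype_card] at hle
  omega

theorem Setting.at_most_two (S : Setting G Ω a b F) (hodd : Odd (Nat.card H))
    (hinv : ∀ s : G, s • a = b → s • b = a → ∀ h ∈ H, s * h * s⁻¹ = h⁻¹) :
    Nat.card F - 1 ≤ 2 * Nat.card H := by
  classical
  haveI := Fintype.ofFinite F
  haveI := Fintype.ofFinite H
  haveI := Fintype.ofFinite (F →* ℂˣ)
  set n := Nat.card F with hn
  set d := Nat.card H with hd
  have hd2 : 2 ≤ d := S.two_le
  by_contra hlt
  let X := {f : F →* ℂˣ // f ≠ 1}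
  have hcomp : ∀ (f : F →* ℂˣ) (h k : H), (f.comp (S.cj h)).comp (S.cj k) = f.comp (S.cj (h * k)) :=
    fun f h k => MonoidHom.ext fun u => by simp [S.cj_mul]
  have hone : ∀ f : F →* ℂˣ, f.comp (S.cj 1) = f := fun f => MonoidHom.ext fun u => by simp [S.cj_one]
  let st : Setoid X :=
    { r := fun f g => ∃ h : H, f.1.comp (S.cj h) = g.1
      iseqv := ⟨fun f => ⟨1, hone _⟩,
        fun {f g} => fun ⟨h, e⟩ => ⟨h⁻¹, by rw [← e, hcomp, mul_inv_cancel, hone]⟩,
        fun {f g k} => fun ⟨h, e⟩ ⟨h', e'⟩ => ⟨h * h', by rw [← hcomp, e, e']⟩⟩ }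
  let Q := Quotient st
  haveI : Fintype Q := Fintype.ofFinite Q
  have hfib : ∀ q : Q, (Finset.univ.filter fun f : X => (Quotient.mk st f : Q) = q).card = d := by
    intro q
    rw [hd, Nat.card_eq_fintype_card, ← Finset.card_univ]
    symm
    refine Finset.card_bij (fun h _ => (⟨q.out.1.comp (S.cj h), fun e => q.out.2 ?_⟩ : X)) ?_ ?_ ?_
    · rw [← hone q.out.1, ← mul_inv_cancel h, ← hcomp, e]
      exact MonoidHom.ext fun u => by simp
    · intro h _
      refine Finset.mem_filter.mpr ⟨Finset.mem_univ _, ?_⟩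
      conv_rhs => rw [← Quotient.out_eq q]
      exact Quotient.sound ⟨h⁻¹, by rw [hcomp, mul_inv_cancel, hone]⟩
    · intro h _ k _ e
      have e' : q.out.1.comp (S.cj h) = q.out.1.comp (S.cj k) := congrArg Subtype.val e
      refine mul_inv_eq_one.mp (S.dual_free q.out.2 (h := h * k⁻¹) ?_)
      rw [← hcomp, e', hcomp, mul_inv_cancel, hone]
    · intro f hf
      obtain ⟨h, e⟩ : st.r q.out f := Quotient.exact ((Quotient.out_eq q).trans (Finset.mem_filter.mp hf).2.symm)
      exact ⟨h, Finset.mem_univ _, Subtype.ext e⟩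
  have hX : Fintype.card X = n - 1 := by
    rw [Fintype.card_subtype_compl, Fintype.card_subtype_eq, ← Nat.card_eq_fintype_card, card_dual S.hc]
  have htd : Fintype.card Q * d + 1 = n := by
    have h := Finset.card_eq_sum_card_fiberwise (s := (Finset.univ : Finset X)) (t := (Finset.univ : Finset Q))
      (f := fun f => (Quotient.mk st f : Q)) (fun f _ => Finset.mem_univ _)
    rw [Finset.sum_congr rfl fun q _ => hfib q, Finset.sum_const, smul_eq_mul, Finset.card_univ, Finset.card_univ,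
      hX] at h
    have := S.three_le
    omega
  set t := Fintype.card Q with ht
  have ht3 : 3 ≤ t := by
    by_contra h
    have : t * d ≤ 2 * d := Nat.mul_le_mul_right _ (by omega)
    omega
  have hdelta : ∀ q q' : Q, (∑ h : H, if q'.out.1.comp (S.cj h) = q.out.1 then 1 else 0 : ℤ) =
      if q = q' then 1 else 0 := by
    intro q q'
    split_ifs with hq
    · subst hq
      rw [Fintype.sum_eq_single (1 : H) fun h hh => if_neg fun e => hh (S.dual_free q.out.2 e), if_pos (hone _)]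
    · refine Finset.sum_eq_zero fun h _ => if_neg fun e => hq ?_
      rw [← Quotient.out_eq q, ← Quotient.out_eq q']
      exact (Quotient.sound (show st.r q'.out q.out from ⟨h, e⟩)).symm
  obtain ⟨ψ, hψ, hspec⟩ := S.special_rows hodd hinv
  have hpar := table_parameters (ι := IrrCharacter G) (Q := Q) (p := n) (d := d) rfl ht3 hd2 htd
    (fun q χ => (S.mlt χ q.out.1 : ℤ)) (fun χ => (S.mlt χ 1 : ℤ)) (fun χ => CT.deg (χ : G → ℂ)) ψ
    (fun χ => CT.deg_pos χ.2)
    (fun χ => by
      obtain ⟨m, ρ, hρ, hc⟩ := χ.2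
      rw [← hc, CT.deg_eq_finrank, hn, hd, ← S.card_G]
      exact CT.finrank_dvd_card ρ)
    (fun q q' => by rw [S.gram, ← hdelta q q', hd])
    (fun q => by
      rw [S.gram, Finset.sum_eq_zero fun h _ => if_neg fun e => q.out.2 ?_, add_zero]
      rw [← hone q.out.1, ← mul_inv_cancel h, ← hcomp, e]
      exact MonoidHom.ext fun u => by simp)
    (fun q q' => by rw [S.gram_deg, S.gram_deg])
    (fun χ => by
      have h := S.sum_mlt χ
      rw [CT.deg_eq (CT.isCharacter_of_isIrr χ.2)] at h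
      have h' : ∑ f : F →* ℂˣ, (S.mlt χ f : ℤ) = CT.deg (χ : G → ℂ) := by exact_mod_cast h
      rw [← h', ← Finset.add_sum_erase _ _ (Finset.mem_univ (1 : F →* ℂˣ))]
      congr 1
      rw [Finset.sum_subtype (Finset.univ.erase (1 : F →* ℂˣ)) (p := fun f => f ≠ 1) (fun f => by simp),
        Finset.mul_sum, ← Finset.sum_fiberwise (s := (Finset.univ : Finset X)) (g := fun f => (Quotient.mk st f : Q))]
      refine Finset.sum_congr rfl fun q _ => ?_
      rw [Finset.sum_congr rfl (g := fun _ => (S.mlt χ q.out.1 : ℤ)) fun f hf => ?_, Finset.sum_const, hfib q,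
        nsmul_eq_mul]
      obtain ⟨h, e⟩ : st.r q.out f := Quotient.exact ((Quotient.out_eq q).trans (Finset.mem_filter.mp hf).2.symm)
      rw [← e, S.mlt_cj])
    (fun χ hχ q q' => by
      obtain ⟨h1, h2⟩ := hspec χ (by exact_mod_cast hχ) _ _ q.out.2 q'.out.2
      exact ⟨congrArg (fun n : ℕ => (n : ℤ)) h1, h2⟩)
    (by exact_mod_cast hψ)
  exact S.no_small ht3 hpar.1 hpar.2

end Cfsg.Agent.ZassSharp.Odd
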