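import Cfsg.Agent.Lib.CT.Basic
import Mathlib.GroupTheory.FiniteAbelian.Duality
import Mathlib.RingTheory.IntegralDomain
import Mathlib.Analysis.Complex.Polynomial.Basic
import Mathlib.RingTheory.RootsOfUnity.AlgebraicallyClosed

/-!
# Linear characters of finite abelian groups: orthogonality
-/

set_option autoImplicit false
set_option linter.all false

namespace Cfsg.Agent.ZassSharp.Odd

open scoped ComplexConjugate

variable {A : Type*} [Group A] [Finite A]

theorem sum_lin [Fintype A] (f : A →* ℂˣ) [Decidable (f = 1)] :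
    ∑ a : A, (f a : ℂ) = if f = 1 then (Nat.card A : ℂ) else 0 := by
  split_ifs with h
  · subst h
    simp [Nat.card_eq_fintype_card]
  · exact sum_hom_units_eq_zero ((Units.coeHom ℂ).comp f) fun e => h (MonoidHom.ext fun a => Units.ext (by
      simpa using DFunLike.congr_fun e a))

theorem lin_mul_conj (f : A →* ℂˣ) (a : A) : (f a : ℂ) * conj (f a : ℂ) = 1 := by
  have h : (f a : ℂ) ^ Nat.card A = 1 := by
    rw [← Units.val_pow_eq_pow_val, ← map_pow, pow_card_eq_one', map_one, Units.val_one]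
  rw [Complex.mul_conj, Complex.normSq_eq_norm_sq, Complex.norm_eq_one_of_pow_eq_one h Nat.card_pos.ne']
  simp

theorem conj_lin (f : A →* ℂˣ) (a : A) : conj (f a : ℂ) = ((f a)⁻¹ : ℂˣ) := by
  apply mul_left_cancel₀ (f a).ne_zero
  rw [lin_mul_conj, Units.mul_inv]

theorem card_dual (hc : ∀ x y : A, x * y = y * x) : Nat.card (A →* ℂˣ) = Nat.card A := by
  letI : CommGroup A := { (inferInstance : Group A) with mul_comm := hc }
  exact CommGroup.card_monoidHom_of_hasEnoughRootsOfUnity A ℂ

theorem exists_lin_ne_one (hc : ∀ x y : A, x * y = y * x) {a : A} (ha : a ≠ 1) :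
    ∃ f : A →* ℂˣ, f a ≠ 1 := by
  letI : CommGroup A := { (inferInstance : Group A) with mul_comm := hc }
  exact CommGroup.exists_apply_ne_one_of_hasEnoughRootsOfUnity A ℂ ha

theorem sum_dual [Fintype (A →* ℂˣ)] [DecidableEq A] (hc : ∀ x y : A, x * y = y * x) (a : A) :
    ∑ f : A →* ℂˣ, (f a : ℂ) = if a = 1 then (Nat.card A : ℂ) else 0 := by
  split_ifs with h
  · subst h
    simp [← card_dual hc, Nat.card_eq_fintype_card]
  · obtain ⟨g, hg⟩ := exists_lin_ne_one hc h
    have e : (g a : ℂ) * ∑ f : A →* ℂˣ, (f a : ℂ) = ∑ f : A →* ℂˣ, (f a : ℂ) := by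
      rw [Finset.mul_sum]
      exact Fintype.sum_equiv (Equiv.mulLeft g) _ _ fun f => by simp
    by_contra hne
    exact hg (Units.ext ((mul_eq_right₀ hne).mp e))

theorem sum_dual_conj [Fintype (A →* ℂˣ)] [DecidableEq A] (hc : ∀ x y : A, x * y = y * x) (a : A) :
    ∑ f : A →* ℂˣ, conj (f a : ℂ) = if a = 1 then (Nat.card A : ℂ) else 0 := by
  rw [← map_sum, sum_dual hc]
  split_ifs <;> simp

end Cfsg.Agent.ZassSharp.Odd
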