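import Cfsg.Agent.Lib.ZassSharp.Odd.Setup
import Cfsg.Agent.Lib.ZassSharp.Odd.Dual
import Cfsg.Agent.Lib.CT.Orthogonality
import Cfsg.Agent.Lib.CT.Induced
import Cfsg.Agent.Lib.PermGp.ZassenhausEven.Iso

/-!
# Restrictions of the irreducible characters to the kernel
-/

set_option autoImplicit false
set_option linter.all false

namespace Cfsg.Agent.ZassSharp.Odd

open MulAction Cfsg PermGp PermGp.ZEven
open scoped ComplexConjugate

universe u v

variable {G : Type u} {Ω : Type v} [Group G] [MulAction G Ω] [Fintype G] [Fintype Ω] {a b : Ω} {F : Subgroup G}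
  [Fintype F]

local notation "H" => (stabilizer G a ⊓ stabilizer G b : Subgroup G)

theorem Setting.card_G (S : Setting G Ω a b F) :
    Nat.card G = (Nat.card F + 1) * Nat.card F * Nat.card H := by
  rw [card_group S.ker S.grp S.ne, ← S.ker.card_add_one S.ne, mul_assoc]

theorem Setting.hc (S : Setting G Ω a b F) (x y : F) : x * y = y * x := Subtype.ext (S.comm x x.2 y y.2)

/-- The multiplicity of a linear character of the kernel in an irreducible character. -/
noncomputable def Setting.mlt (S : Setting G Ω a b F) (χ : IrrCharacter G) (f : F →* ℂˣ) : ℕ :=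
  CT.mult (fun u : F => (χ : G → ℂ) u) (fun u => (f u : ℂ))

theorem Setting.mlt_eq (S : Setting G Ω a b F) (χ : IrrCharacter G) (f : F →* ℂˣ) :
    (Nat.card F : ℂ) * S.mlt χ f = ∑ u : F, (χ : G → ℂ) u * conj (f u : ℂ) := by
  rw [Setting.mlt, ← CT.mult_spec (CT.isCharacter_restrict F (CT.isCharacter_of_isIrr χ.2)) (CT.isCharacter_lin f),
    classInner, ← mul_assoc, mul_inv_cancel₀ CT.card_ne_zero, one_mul]

theorem Setting.sum_mlt (S : Setting G Ω a b F) [Fintype (F →* ℂˣ)] (χ : IrrCharacter G) :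
    ∑ f : F →* ℂˣ, (S.mlt χ f : ℂ) = (χ : G → ℂ) 1 := by
  classical
  refine mul_left_cancel₀ (CT.card_ne_zero (G := F)) ?_
  rw [Finset.mul_sum]
  simp only [S.mlt_eq]
  rw [Finset.sum_comm]
  simp only [← Finset.mul_sum, sum_dual_conj S.hc]
  simp [mul_comm]

theorem Setting.mlt_cj (S : Setting G Ω a b F) (χ : IrrCharacter G) (f : F →* ℂˣ) (h : H) :
    S.mlt χ (f.comp (S.cj h)) = S.mlt χ f := by
  have key : (Nat.card F : ℂ) * S.mlt χ (f.comp (S.cj h)) = (Nat.card F : ℂ) * S.mlt χ f := by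
    rw [S.mlt_eq, S.mlt_eq]
    refine Fintype.sum_bijective _ (S.cj_bijective h) _ _ fun u => ?_
    rw [S.cj_coe, CT.isClassFunction_of_isIrr χ.2 u h]
    rfl
  exact_mod_cast mul_left_cancel₀ (CT.card_ne_zero (G := F)) key

theorem Setting.column (S : Setting G Ω a b F) [Fintype H] [DecidableEq F] (u v : F) :
    ∑ χ : IrrCharacter G, (χ : G → ℂ) u * conj ((χ : G → ℂ) v) =
      if u = 1 then (if v = 1 then (Nat.card G : ℂ) else 0)
      else (Nat.card F : ℂ) * ∑ h : H, (if S.cj h u = v then 1 else 0) := by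
  classical
  rw [CT.column_orthogonality]
  by_cases hu : u = 1
  · subst hu
    rw [if_pos rfl, Subgroup.coe_one]
    have hcent : Subgroup.centralizer ({1} : Set G) = ⊤ := by
      ext x; simp [Subgroup.mem_centralizer_singleton_iff]
    rw [hcent, Subgroup.card_top]
    have hiff : IsConj (1 : G) (v : G) ↔ v = 1 :=
      isConj_one_right.trans ⟨fun e => Subtype.ext e, fun e => by rw [e]; rfl⟩
    by_cases hv : v = 1
    · rw [if_pos hv, if_pos (hiff.mpr hv)]
    · rw [if_neg hv, if_neg (mt hiff.mp hv)]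
  · rw [if_neg hu, S.card_centralizer hu]
    by_cases hv : IsConj (u : G) v
    · rw [if_pos hv]
      obtain ⟨h₀, hh₀⟩ := (S.isConj_iff hu).mp hv
      rw [Fintype.sum_eq_single h₀ (fun h hh => if_neg fun e => hh ?_), if_pos hh₀, mul_one]
      refine inv_mul_eq_one.mp ?_ |>.symm
      refine S.cj_fix hu ?_
      rw [S.cj_mul, e, ← hh₀, ← S.cj_mul, inv_mul_cancel, S.cj_one]
    · rw [if_neg hv, Finset.sum_eq_zero fun h _ => if_neg fun e => hv ((S.isConj_iff hu).mpr ⟨h, e⟩), mul_zero]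

theorem Setting.gram (S : Setting G Ω a b F) [Fintype H] [DecidableEq (F →* ℂˣ)] (f g : F →* ℂˣ) :
    ∑ χ : IrrCharacter G, (S.mlt χ f : ℤ) * S.mlt χ g =
      Nat.card H + ∑ h : H, (if g.comp (S.cj h) = f then 1 else 0) := by
  classical
  have hn0 : (Nat.card F : ℂ) ≠ 0 := CT.card_ne_zero
  have h1 : ∀ χ : IrrCharacter G, (Nat.card F : ℂ) * Nat.card F * ((S.mlt χ f : ℂ) * S.mlt χ g) =
      ∑ u : F, ∑ v : F, ((χ : G → ℂ) u * conj ((χ : G → ℂ) v)) * (conj (f u : ℂ) * (g v : ℂ)) := fun χ => by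
    calc _ = ((Nat.card F : ℂ) * S.mlt χ f) * conj ((Nat.card F : ℂ) * S.mlt χ g) := by
          simp only [map_mul, map_natCast]; ring
      _ = _ := by
          rw [S.mlt_eq, S.mlt_eq, map_sum, Finset.sum_mul_sum]
          simp only [map_mul, Complex.conj_conj]
          exact Finset.sum_congr rfl fun u _ => Finset.sum_congr rfl fun v _ => by ring
  have h2 : ∀ u : F, ∑ v : F, (if u = 1 then (if v = 1 then (Nat.card G : ℂ) else 0)
      else (Nat.card F : ℂ) * ∑ h : H, (if S.cj h u = v then 1 else 0)) * (conj (f u : ℂ) * (g v : ℂ)) =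
      (if u = 1 then (Nat.card G : ℂ) - Nat.card F * Nat.card H else 0) +
        (Nat.card F : ℂ) * ∑ h : H, conj (f u : ℂ) * (g (S.cj h u) : ℂ) := fun u => by
    by_cases hu : u = 1
    · subst hu
      simp [← Nat.card_eq_fintype_card]
    · rw [if_neg hu, zero_add]
      simp only [if_neg hu, Finset.mul_sum, Finset.sum_mul]
      rw [Finset.sum_comm]
      refine Finset.sum_congr rfl fun h _ => ?_
      simp only [mul_ite, mul_one, mul_zero, ite_mul, zero_mul, Finset.sum_ite_eq, Finset.mem_univ, if_true]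
  have h3 : ∀ h : H, ∑ u : F, conj (f u : ℂ) * (g (S.cj h u) : ℂ) =
      if g.comp (S.cj h) = f then (Nat.card F : ℂ) else 0 := fun h => by
    have hiff : g.comp (S.cj h) * f⁻¹ = 1 ↔ g.comp (S.cj h) = f := by
      rw [MonoidHom.ext_iff, MonoidHom.ext_iff]
      exact forall_congr' fun u => by simp [mul_inv_eq_one]
    rw [← if_congr hiff rfl rfl, ← sum_lin]
    refine Finset.sum_congr rfl fun u _ => ?_
    rw [conj_lin, mul_comm]
    simp
  have key : (Nat.card F : ℂ) * Nat.card F * ∑ χ : IrrCharacter G, (S.mlt χ f : ℂ) * S.mlt χ g =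
      (Nat.card F : ℂ) * Nat.card F * (Nat.card H + ∑ h : H, (if g.comp (S.cj h) = f then 1 else 0)) := by
    rw [Finset.mul_sum, Finset.sum_congr rfl fun χ _ => h1 χ, Finset.sum_comm]
    simp only [Finset.sum_comm (s := (Finset.univ : Finset (IrrCharacter G))), ← Finset.sum_mul, S.column]
    rw [Finset.sum_congr rfl fun u _ => h2 u, Finset.sum_add_distrib, Finset.sum_ite_eq', if_pos (Finset.mem_univ _),
      ← Finset.mul_sum, Finset.sum_comm]
    simp only [h3, S.card_G]
    push_cast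
    rw [mul_add, Finset.mul_sum, Finset.mul_sum]
    simp only [mul_ite, mul_one, mul_zero]
    ring
  have h4 : ((∑ χ : IrrCharacter G, (S.mlt χ f : ℤ) * S.mlt χ g : ℤ) : ℂ) =
      ((Nat.card H + ∑ h : H, (if g.comp (S.cj h) = f then 1 else 0) : ℤ) : ℂ) := by
    push_cast
    exact mul_left_cancel₀ (mul_ne_zero hn0 hn0) key
  exact_mod_cast h4

theorem Setting.gram_deg (S : Setting G Ω a b F) [Fintype H] (f : F →* ℂˣ) :
    ∑ χ : IrrCharacter G, (S.mlt χ f : ℤ) * CT.deg (χ : G → ℂ) =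
      ((Nat.card F + 1) * Nat.card H : ℕ) := by
  classical
  have h : ∀ χ : IrrCharacter G, (Nat.card F : ℂ) * ((S.mlt χ f : ℂ) * (CT.deg (χ : G → ℂ) : ℂ)) =
      ∑ u : F, ((χ : G → ℂ) u * conj ((χ : G → ℂ) ((1 : F) : G))) * conj (f u : ℂ) := fun χ => by
    rw [← mul_assoc, S.mlt_eq, Finset.sum_mul, Subgroup.coe_one, CT.deg_eq (CT.isCharacter_of_isIrr χ.2),
      map_natCast]
    exact Finset.sum_congr rfl fun u _ => by ring
  have key : (Nat.card F : ℂ) * ∑ χ : IrrCharacter G, (S.mlt χ f : ℂ) * (CT.deg (χ : G → ℂ) : ℂ) =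
      (Nat.card F : ℂ) * (((Nat.card F + 1) * Nat.card H : ℕ) : ℂ) := by
    rw [Finset.mul_sum, Finset.sum_congr rfl fun χ _ => h χ, Finset.sum_comm]
    simp only [← Finset.sum_mul, S.column]
    rw [Fintype.sum_eq_single (1 : F)]
    · rw [if_pos trivial, S.card_G, map_one, Units.val_one, map_one, mul_one]
      simp only [if_true]
      push_cast
      ring
    · intro u hu
      rw [if_neg hu, Finset.sum_eq_zero fun h _ => if_neg fun e => hu (S.cj_eq_one.mp e)]
      simp
  have := mul_left_cancel₀ (CT.card_ne_zero (G := F)) key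
  exact_mod_cast this

end Cfsg.Agent.ZassSharp.Odd
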