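import Cfsg.Agent.Lib.ZassSharp.Odd.Setup
import Cfsg.Agent.Lib.CT.Induced

/-!
# Characters induced from linear characters of a point stabiliser, on that stabiliser
-/

set_option autoImplicit false
set_option linter.all false

namespace Cfsg.Agent.ZassSharp.Odd

open MulAction Cfsg PermGp PermGp.ZEven

universe u v

variable {G : Type u} {Ω : Type v} [Group G] [MulAction G Ω] [Fintype G] [Fintype Ω] {a b : Ω} {F : Subgroup G}

local notation "H" => (stabilizer G a ⊓ stabilizer G b : Subgroup G)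
local notation "B" => (stabilizer G a : Subgroup G)

/-- The element of the two-point stabiliser in a coset of the kernel. -/
noncomputable def Setting.top (S : Setting G Ω a b F) (x : B) : H :=
  (S.decompose (mem_stabilizer_iff.mp x.2)).choose_spec.choose

theorem Setting.top_spec (S : Setting G Ω a b F) (x : B) : ∃ u : F, (x : G) = u * S.top x :=
  ⟨_, (S.decompose (mem_stabilizer_iff.mp x.2)).choose_spec.choose_spec⟩

theorem Setting.unique (S : Setting G Ω a b F) {u v : F} {h k : H} (e : (u : G) * h = v * k) : u = v ∧ h = k := by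
  have h1 : (v : G)⁻¹ * u = k * (h : G)⁻¹ := by
    rw [eq_mul_inv_iff_mul_eq, mul_assoc, e, inv_mul_cancel_left]
  have h2 := S.disjoint (F.mul_mem (F.inv_mem v.2) u.2)
    (by rw [h1]; exact Subgroup.mul_mem _ k.2 (Subgroup.inv_mem _ h.2))
  obtain rfl : u = v := Subtype.ext (inv_mul_eq_one.mp h2).symm
  exact ⟨rfl, Subtype.ext (mul_left_cancel e)⟩

theorem Setting.top_eq (S : Setting G Ω a b F) {x : B} {u : F} {h : H} (e : (x : G) = u * h) : S.top x = h := by
  obtain ⟨v, hv⟩ := S.top_spec x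
  exact (S.unique (hv.symm.trans e)).2

/-- The quotient map of the point stabiliser. -/
noncomputable def Setting.proj (S : Setting G Ω a b F) : B →* H :=
  MonoidHom.mk' S.top fun x y => by
    obtain ⟨u, hu⟩ := S.top_spec x
    obtain ⟨v, hv⟩ := S.top_spec y
    refine S.top_eq (u := u * S.cj (S.top x) v) ?_
    rw [Subgroup.coe_mul, Subgroup.coe_mul, Subgroup.coe_mul, S.cj_coe]
    nth_rewrite 1 [hu]
    nth_rewrite 1 [hv]
    group

theorem Setting.proj_kernel (S : Setting G Ω a b F) (u : F) :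
    S.proj ⟨u, mem_stabilizer_iff.mpr (S.ker.fix u u.2)⟩ = 1 :=
  S.top_eq (u := u) (by simp)

theorem Setting.proj_two (S : Setting G Ω a b F) {x : G} (hx : x ∈ H) :
    S.proj ⟨x, (Subgroup.mem_inf.mp hx).1⟩ = ⟨x, hx⟩ :=
  S.top_eq (u := 1) (by simp)

theorem Setting.sum_stab {M : Type*} [AddCommMonoid M] (S : Setting G Ω a b F) [Fintype B] [Fintype H] [Fintype F]
    (f : B → M) :
    ∑ x : B, f x = ∑ h : H, ∑ u : F, f ⟨(u : G) * h, mem_stabilizer_iff.mpr (by
      rw [mul_smul, S.fa h.2, S.ker.fix u u.2])⟩ := by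
  rw [← Fintype.sum_prod_type' (f := fun (h : H) (u : F) => f _)]
  symm
  refine Fintype.sum_bijective (fun q : H × F => (⟨(q.2 : G) * q.1, mem_stabilizer_iff.mpr (by
    rw [mul_smul, S.fa q.1.2, S.ker.fix q.2 q.2.2])⟩ : B)) ⟨?_, ?_⟩ _ _ fun q => rfl
  · rintro ⟨h, u⟩ ⟨k, v⟩ e
    obtain ⟨rfl, rfl⟩ := S.unique (congrArg Subtype.val e)
    rfl
  · intro x
    obtain ⟨u, h, hx⟩ := S.decompose (mem_stabilizer_iff.mp x.2)
    exact ⟨(h, u), Subtype.ext hx.symm⟩

/-- The induced character on the point stabiliser. -/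
theorem Setting.indFun_stab (S : Setting G Ω a b F) [Fintype F] [Fintype B] [DecidableEq H] [DecidableEq B]
    (hinv : ∀ s : G, s • a = b → s • b = a → ∀ h ∈ H, s * h * s⁻¹ = h⁻¹) (φ : H →* ℂˣ) (x : B) :
    indFun B (fun y : B => (φ (S.proj y) : ℂ)) (x : G) =
      (φ (S.proj x) : ℂ) +
        if S.proj x = 1 then (if x = 1 then (Nat.card F : ℂ) else 0) else ((φ (S.proj x))⁻¹ : ℂˣ) := by
  classical
  obtain ⟨w, hwa, hwb⟩ := two_trans_exists S.grp.two S.ne S.ne.symm
  set θ : B → ℂ := fun y => (φ (S.proj y) : ℂ) with hθ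
  let r : Option F → G := fun y => y.elim 1 fun u => (u : G) * w
  let pt : Option F → Ω := fun y => y.elim a fun u => (u : G) • b
  have hr : ∀ y, r y • a = pt y := by
    rintro (_ | u)
    · exact one_smul _ _
    · show ((u : G) * w) • a = (u : G) • b
      rw [mul_smul, hwa]
  have hpt : Function.Bijective pt := by
    refine ⟨?_, fun y => ?_⟩
    · rintro (_ | u) (_ | v) h
      · rfl
      · exact absurd h.symm (S.ker.ne_of_mem v.2 S.ne.symm)
      · exact absurd h (S.ker.ne_of_mem u.2 S.ne.symm)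
      · exact congrArg some (Subtype.ext (S.ker.translate_inj S.ne.symm u.2 v.2 h))
    · by_cases hy : y = a
      · exact ⟨none, hy.symm⟩
      · obtain ⟨u, hu, huy⟩ := S.ker.exists_eq b y S.ne.symm hy
        exact ⟨some ⟨u, hu⟩, huy⟩
  have hbij : Function.Bijective fun q : Option F × B => r q.1 * q.2 := by
    constructor
    · rintro ⟨y, h⟩ ⟨y', h'⟩ e
      have e1 := congrArg (fun g : G => g • a) e
      simp only [mul_smul, mem_stabilizer_iff.mp h.2, mem_stabilizer_iff.mp h'.2, hr] at e1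
      obtain rfl := hpt.1 e1
      exact Prod.ext rfl (Subtype.ext (mul_left_cancel e))
    · intro g
      obtain ⟨y, hy⟩ := hpt.2 (g • a)
      exact ⟨(y, ⟨(r y)⁻¹ * g, by rw [mem_stabilizer_iff, mul_smul, inv_smul_eq_iff, hr, hy]⟩),
        mul_inv_cancel_left _ _⟩
  have hconj : ∀ (g : G) (h : B), extendByZero B θ ((h : G)⁻¹ * g * h) = extendByZero B θ g := by
    intro g h
    by_cases hg : g ∈ B
    · rw [CT.extendByZero_mem _ _ (Subgroup.mul_mem _ (Subgroup.mul_mem _ (Subgroup.inv_mem _ h.2) hg) h.2),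
        CT.extendByZero_mem _ _ hg]
      show (φ (S.proj (h⁻¹ * ⟨g, hg⟩ * h)) : ℂ) = φ (S.proj ⟨g, hg⟩)
      simp [mul_right_comm]
    · rw [CT.extendByZero_not_mem _ _ hg, CT.extendByZero_not_mem _ _ fun h' => hg ?_]
      have := Subgroup.mul_mem _ (Subgroup.mul_mem _ h.2 h') (Subgroup.inv_mem _ h.2)
      simpa [mul_assoc] using this
  rw [indFun, ← hbij.sum_comp (g := fun y => extendByZero B θ (y⁻¹ * (x : G) * y)), Fintype.sum_prod_type]
  have hrow : ∀ y : Option F, ∑ h : B, extendByZero B θ ((r y * (h : G))⁻¹ * (x : G) * (r y * h)) =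
      (Nat.card B : ℂ) * extendByZero B θ ((r y)⁻¹ * x * r y) := fun y => by
    rw [Finset.sum_congr rfl (g := fun _ => extendByZero B θ ((r y)⁻¹ * x * r y)) fun h _ => ?_,
      Finset.sum_const, Finset.card_univ, ← Nat.card_eq_fintype_card, nsmul_eq_mul]
    rw [← hconj ((r y)⁻¹ * x * r y) h]
    congr 1
    group
  simp only [hrow, ← Finset.mul_sum]
  rw [← mul_assoc, inv_mul_cancel₀ (Nat.cast_ne_zero.mpr Nat.card_pos.ne'), one_mul, Fintype.sum_option,
    show r none = 1 from rfl, inv_one, one_mul, mul_one, CT.extendByZero_coe]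
  congr 1
  obtain ⟨v, hv⟩ := S.top_spec x
  rw [show S.top x = S.proj x from rfl] at hv
  -- which coset representatives are moved into the stabiliser
  have hmem : ∀ u : F, (r (some u))⁻¹ * (x : G) * r (some u) ∈ B → u = v * S.cj (S.proj x) u := fun u h => by
    rw [mem_stabilizer_iff, mul_smul, mul_smul, inv_smul_eq_iff, hr] at h
    refine Subtype.ext (S.ker.translate_inj S.ne.symm u.2 (v * S.cj (S.proj x) u).2 ?_)
    rw [Subgroup.coe_mul, S.cj_coe, mul_smul, S.ker.conj_smul (S.fb (S.proj x).2) u.2, ← mul_smul (v : G), ← hv]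
    exact h.symm
  by_cases hp : S.proj x = 1
  · rw [if_pos hp]
    by_cases hx : x = 1
    · subst hx
      simp only [Subgroup.coe_one, mul_one, inv_mul_cancel, if_true, CT.extendByZero_mem _ _ (Subgroup.one_mem B)]
      simp [hθ, show (⟨1, Subgroup.one_mem B⟩ : B) = 1 from rfl, Nat.card_eq_fintype_card]
    · rw [if_neg hx]
      refine Finset.sum_eq_zero fun u _ => CT.extendByZero_not_mem _ _ fun h => hx (Subtype.ext ?_)
      have h1 := hmem u h
      rw [hp, S.cj_one, eq_comm, mul_eq_right] at h1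
      rw [hv, hp, h1]
      simp
  · rw [if_neg hp]
    -- the fixed point of the affine map
    let ψ : F → F := fun u => u * (S.cj (S.proj x) u)⁻¹
    have hψ : Function.Bijective ψ := by
      rw [Finite.injective_iff_bijective.symm]
      intro u u' e
      have e' : S.cj (S.proj x) (u'⁻¹ * u) = u'⁻¹ * u := by
        have h1 : S.cj (S.proj x) u * (u : F)⁻¹ = S.cj (S.proj x) u' * (u' : F)⁻¹ := by
          have := congrArg (fun z : F => z⁻¹) e
          simpa [ψ, mul_inv_rev] using this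
        rw [map_mul, map_inv]
        calc (S.cj (S.proj x) u')⁻¹ * S.cj (S.proj x) u
            = (S.cj (S.proj x) u')⁻¹ * (S.cj (S.proj x) u * u⁻¹) * u := by group
          _ = u'⁻¹ * u := by rw [h1]; group
      by_contra hne
      exact hp (S.cj_fix (fun h0 => hne (inv_mul_eq_one.mp h0).symm) e')
    obtain ⟨u₀, hu₀⟩ := hψ.2 v
    have huniq : ∀ u : F, (r (some u))⁻¹ * (x : G) * r (some u) ∈ B → u = u₀ := fun u h => by
      refine hψ.1 ?_
      rw [hu₀]
      have h1 := hmem u h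
      show u * (S.cj (S.proj x) u)⁻¹ = v
      nth_rewrite 1 [h1]
      rw [mul_inv_cancel_right]
    rw [Fintype.sum_eq_single u₀ fun u hu => CT.extendByZero_not_mem _ _ fun h => hu (huniq u h)]
    have hcore : (u₀ : G)⁻¹ * x * u₀ = (S.proj x : G) := by
      rw [hv, ← hu₀]
      show (u₀ : G)⁻¹ * ((u₀ : G) * ((S.proj x : G) * u₀ * (S.proj x : G)⁻¹)⁻¹ * S.proj x) * u₀ = _
      group
    have hw : w⁻¹ * (S.proj x : G) * w = (S.proj x : G)⁻¹ := by
      have h1 := hinv w hwa hwb _ (S.proj x).2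
      calc w⁻¹ * (S.proj x : G) * w = w⁻¹ * ((S.proj x : G)⁻¹)⁻¹ * w := by rw [inv_inv]
        _ = w⁻¹ * (w * (S.proj x : G) * w⁻¹)⁻¹ * w := by rw [h1]
        _ = _ := by group
    have hg : (r (some u₀))⁻¹ * (x : G) * r (some u₀) = (S.proj x : G)⁻¹ := by
      show ((u₀ : G) * w)⁻¹ * (x : G) * ((u₀ : G) * w) = _
      rw [← hw, ← hcore]
      group
    have hH : (S.proj x : G)⁻¹ ∈ H := Subgroup.inv_mem _ (S.proj x).2
    rw [hg, CT.extendByZero_mem _ _ (Subgroup.mem_inf.mp hH).1]
    show (φ (S.proj ⟨_, _⟩) : ℂ) = _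
    rw [S.proj_two hH, ← map_inv]
    rfl

end Cfsg.Agent.ZassSharp.Odd
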