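import Cfsg.Agent.Lib.ZassSharp.Basic
import Mathlib.Data.Fintype.BigOperators

/-!
# Zassenhaus groups with an abelian kernel: conjugacy inside the kernel
-/

set_option autoImplicit false
set_option linter.all false

namespace Cfsg.Agent.ZassSharp.Odd

open MulAction PermGp PermGp.ZEven

universe u v

/-- A Zassenhaus group with a given abelian kernel and two base points. -/
structure Setting (G : Type u) (Ω : Type v) [Group G] [MulAction G Ω] (a b : Ω) (F : Subgroup G) : Prop where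
  ker : ZKer a F
  grp : ZGrp G Ω
  ne : a ≠ b
  comm : ∀ x ∈ F, ∀ y ∈ F, x * y = y * x

variable {G : Type u} {Ω : Type v} [Group G] [MulAction G Ω] [Finite G] [Fintype Ω] {a b : Ω} {F : Subgroup G}

local notation "H" => (stabilizer G a ⊓ stabilizer G b : Subgroup G)

theorem Setting.fa (S : Setting G Ω a b F) {h : G} (hh : h ∈ H) : h • a = a :=
  mem_stabilizer_iff.mp (Subgroup.mem_inf.mp hh).1

theorem Setting.fb (S : Setting G Ω a b F) {h : G} (hh : h ∈ H) : h • b = b :=
  mem_stabilizer_iff.mp (Subgroup.mem_inf.mp hh).2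

/-- Conjugation of the kernel by an element of the two-point stabiliser. -/
def Setting.cj (S : Setting G Ω a b F) (h : H) : F →* F where
  toFun u := ⟨(h : G) * u * (h : G)⁻¹, S.ker.conj h (S.fa h.2) u u.2⟩
  map_one' := Subtype.ext (by simp)
  map_mul' u v := Subtype.ext (by
    show (h : G) * ((u : G) * v) * (h : G)⁻¹ = h * u * (h : G)⁻¹ * (h * v * (h : G)⁻¹)
    group)

theorem Setting.cj_coe (S : Setting G Ω a b F) (h : H) (u : F) :
    (S.cj h u : G) = (h : G) * u * (h : G)⁻¹ := rfl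

theorem Setting.cj_mul (S : Setting G Ω a b F) (h k : H) (u : F) : S.cj (h * k) u = S.cj h (S.cj k u) :=
  Subtype.ext (by
    simp only [Setting.cj_coe, Subgroup.coe_mul]
    group)

theorem Setting.cj_one (S : Setting G Ω a b F) (u : F) : S.cj 1 u = u :=
  Subtype.ext (by simp [Setting.cj_coe])

theorem Setting.cj_bijective (S : Setting G Ω a b F) (h : H) : Function.Bijective (S.cj h) :=
  ⟨fun u v e => by rw [← S.cj_one u, ← S.cj_one v, ← inv_mul_cancel h, S.cj_mul, S.cj_mul, e],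
    fun v => ⟨S.cj h⁻¹ v, by rw [← S.cj_mul, mul_inv_cancel, S.cj_one]⟩⟩

theorem Setting.cj_fix (S : Setting G Ω a b F) {h : H} {u : F} (hu : u ≠ 1) (e : S.cj h u = u) : h = 1 :=
  Subtype.ext (S.ker.fpf S.grp S.ne (S.fa h.2) (S.fb h.2) u.2 (fun e' => hu (Subtype.ext e'))
    (congrArg Subtype.val e))

theorem Setting.cj_eq_one (S : Setting G Ω a b F) {h : H} {u : F} : S.cj h u = 1 ↔ u = 1 :=
  ⟨fun e => (S.cj_bijective h).1 (e.trans (map_one _).symm), fun e => by rw [e, map_one]⟩

theorem Setting.only_fixed (S : Setting G Ω a b F) {u : F} (hu : u ≠ 1) {y : Ω} (h : (u : G) • y = y) :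
    y = a := by
  by_contra hy
  exact hu (Subtype.ext (S.ker.semi u u.2 y hy h))

theorem Setting.decompose (S : Setting G Ω a b F) {g : G} (hg : g • a = a) :
    ∃ (u : F) (h : H), g = u * h := by
  have hgb : g • b ≠ a := fun h => S.ne.symm (MulAction.injective g (h.trans hg.symm))
  obtain ⟨u, hu, hub⟩ := S.ker.exists_eq b (g • b) S.ne.symm hgb
  exact ⟨⟨u, hu⟩, ⟨u⁻¹ * g, Subgroup.mem_inf.mpr
    ⟨by rw [mem_stabilizer_iff, mul_smul, hg, inv_smul_eq_iff, S.ker.fix u hu],
      by rw [mem_stabilizer_iff, mul_smul, inv_smul_eq_iff, hub]⟩⟩, (mul_inv_cancel_left u g).symm⟩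

theorem Setting.disjoint (S : Setting G Ω a b F) {u : G} (hu : u ∈ F) (hh : u ∈ H) : u = 1 :=
  S.ker.semi u hu b S.ne.symm (S.fb hh)

theorem Setting.conj_fix (S : Setting G Ω a b F) {g : G} {u v : F} (hu : u ≠ 1)
    (e : g * u * g⁻¹ = (v : G)) : g • a = a := by
  refine S.only_fixed (u := v) (fun hv => hu ?_) ?_
  · rw [hv, Subgroup.coe_one] at e
    exact Subtype.ext (conj_eq_one_iff.mp e)
  · rw [← e, mul_smul, mul_smul, inv_smul_smul, S.ker.fix u u.2]

theorem Setting.isConj_iff (S : Setting G Ω a b F) {u v : F} (hu : u ≠ 1) :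
    IsConj (u : G) v ↔ ∃ h : H, S.cj h u = v := by
  constructor
  · intro hc
    obtain ⟨g, hg⟩ := _root_.isConj_iff.mp hc
    obtain ⟨w, h, rfl⟩ := S.decompose (S.conj_fix hu hg)
    refine ⟨h, Subtype.ext ?_⟩
    rw [← hg, Setting.cj_coe]
    have : (w : G) * ((h : G) * u * (h : G)⁻¹) = (h : G) * u * (h : G)⁻¹ * w :=
      S.comm _ w.2 _ (S.cj h u).2
    calc (h : G) * u * (h : G)⁻¹ = (h : G) * u * (h : G)⁻¹ * w * (w : G)⁻¹ := by group
    _ = (w : G) * h * u * ((w : G) * h)⁻¹ := by rw [← this]; group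
  · rintro ⟨h, rfl⟩
    exact _root_.isConj_iff.mpr ⟨h, (S.cj_coe h u).symm⟩

theorem Setting.card_centralizer (S : Setting G Ω a b F) {u : F} (hu : u ≠ 1) :
    Nat.card (Subgroup.centralizer ({(u : G)} : Set G)) = Nat.card F := by
  have heq : Subgroup.centralizer ({(u : G)} : Set G) = F := by
    ext g
    rw [Subgroup.mem_centralizer_singleton_iff]
    refine ⟨fun hg => ?_, fun hg => S.comm g hg u u.2⟩
    have e : g * u * g⁻¹ = (u : G) := mul_inv_eq_iff_eq_mul.mpr hg
    obtain ⟨w, h, rfl⟩ := S.decompose (S.conj_fix hu e)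
    have h1 : h = 1 := by
      refine S.cj_fix hu (Subtype.ext ?_)
      have hc : (w : G) * ((h : G) * u * (h : G)⁻¹) = (h : G) * u * (h : G)⁻¹ * w :=
        S.comm _ w.2 _ (S.cj h u).2
      rw [Setting.cj_coe]
      calc (h : G) * u * (h : G)⁻¹ = (h : G) * u * (h : G)⁻¹ * w * (w : G)⁻¹ := by group
      _ = (w : G) * h * u * ((w : G) * h)⁻¹ := by rw [← hc]; group
      _ = u := e
    rw [h1, Subgroup.coe_one, mul_one]
    exact w.2
  rw [heq]

theorem Setting.two_le (S : Setting G Ω a b F) : 2 ≤ Nat.card H := S.grp.stab_pos S.ne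

theorem Setting.dvd_sub_one (S : Setting G Ω a b F) : Nat.card H ∣ Nat.card F - 1 := by
  have h := ZassSharp.card_dvd S.grp S.ne
  have hn := S.ker.card_add_one S.ne
  rwa [show Fintype.card Ω - 2 = Nat.card F - 1 by omega] at h

theorem Setting.three_le (S : Setting G Ω a b F) : 3 ≤ Nat.card F := by
  have h1 := S.two_le
  have h2 := S.ker.card_add_one S.ne
  obtain ⟨c, hca, hcb⟩ := S.grp.exists_third a b
  classical
  have h3 : 3 ≤ Fintype.card Ω := by
    have := Finset.card_le_univ ({a, b, c} : Finset Ω)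
    rwa [Finset.card_eq_three.mpr ⟨a, b, c, S.ne, hca.symm, hcb.symm, rfl⟩] at this
  have hd := S.dvd_sub_one
  have := Nat.le_of_dvd (by omega) hd
  omega

end Cfsg.Agent.ZassSharp.Odd
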