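import Cfsg.Agent.Lib.ZassSharp.Odd.Fourier
import Cfsg.Agent.Lib.ZassSharp.Odd.Induced

/-!
# The irreducible characters with a non-trivial fixed space of the kernel
-/

set_option autoImplicit false
set_option linter.all false

namespace Cfsg.Agent.ZassSharp.Odd

open MulAction Cfsg PermGp PermGp.ZEven
open scoped ComplexConjugate

universe u v

variable {G : Type u} {Ω : Type v} [Group G] [MulAction G Ω] [Fintype G] [Fintype Ω] {a b : Ω} {F : Subgroup G}
  [Fintype F]

local notation "H" => (stabilizer G a ⊓ stabilizer G b : Subgroup G)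
local notation "B" => (stabilizer G a : Subgroup G)

theorem Setting.mlt_of_shape (S : Setting G Ω a b F) [DecidableEq F] [DecidableEq (F →* ℂˣ)]
    (χ : IrrCharacter G) (α β : ℂ) (h : ∀ u : F, (χ : G → ℂ) u = α + if u = 1 then β else 0) (f : F →* ℂˣ) :
    (Nat.card F : ℂ) * S.mlt χ f = (if f = 1 then (Nat.card F : ℂ) * α else 0) + β := by
  classical
  rw [S.mlt_eq]
  simp only [h, add_mul, Finset.sum_add_distrib, ite_mul, zero_mul, Finset.sum_ite_eq', Finset.mem_univ,
    if_true, map_one, Units.val_one, mul_one, ← Finset.mul_sum]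
  congr 1
  rw [← map_sum, sum_lin]
  split_ifs <;> simp [mul_comm]

theorem Setting.special_rows (S : Setting G Ω a b F) [DecidableEq (IrrCharacter G)]
    (hodd : Odd (Nat.card H)) (hinv : ∀ s : G, s • a = b → s • b = a → ∀ h ∈ H, s * h * s⁻¹ = h⁻¹) :
    ∃ ψ : IrrCharacter G, S.mlt ψ 1 ≠ 0 ∧ ∀ χ : IrrCharacter G, S.mlt χ 1 ≠ 0 →
      ∀ f g : F →* ℂˣ, f ≠ 1 → g ≠ 1 → S.mlt χ f = S.mlt χ g ∧
        2 * ((S.mlt χ f : ℤ) * S.mlt χ f) - (S.mlt χ 1 : ℤ) * S.mlt χ f = if χ = ψ then 1 else 0 := by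
  classical
  haveI := Fintype.ofFinite H
  haveI := Fintype.ofFinite B
  haveI := Fintype.ofFinite (H →* ℂˣ)
  set n := Nat.card F with hn
  set d := Nat.card H with hd
  have hn0 : (n : ℂ) ≠ 0 := CT.card_ne_zero
  have hd0 : (d : ℂ) ≠ 0 := CT.card_ne_zero
  have hBcard : Nat.card B = n * d := by
    have h : Fintype.card B = ∑ x : B, 1 := by simp
    rw [Nat.card_eq_fintype_card, h, S.sum_stab]
    simp [hn, hd, Nat.card_eq_fintype_card, mul_comm]
  -- the two-point stabiliser is commutative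
  have hHc : ∀ x y : H, x * y = y * x := fun x y => by
    obtain ⟨w, hwa, hwb⟩ := two_trans_exists S.grp.two S.ne S.ne.symm
    refine Subtype.ext ?_
    have h1 := hinv w hwa hwb _ (Subgroup.mul_mem _ x.2 y.2)
    rw [show w * ((x : G) * y) * w⁻¹ = (w * x * w⁻¹) * (w * y * w⁻¹) by group, hinv w hwa hwb _ x.2,
      hinv w hwa hwb _ y.2, ← mul_inv_rev, inv_inj] at h1
    exact h1.symm
  let Λ : (H →* ℂˣ) → B →* ℂˣ := fun φ => φ.comp S.proj
  let I : (H →* ℂˣ) → G → ℂ := fun φ => indFun B fun x => (Λ φ x : ℂ)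
  have hIchar : ∀ φ, IsCharacter G (I φ) := fun φ => CT.isCharacter_indFun B (CT.isCharacter_lin (Λ φ))
  have hIb : ∀ φ (x : B), I φ (x : G) = (φ (S.proj x) : ℂ) +
      if S.proj x = 1 then (if x = 1 then (n : ℂ) else 0) else ((φ (S.proj x))⁻¹ : ℂˣ) :=
    fun φ x => S.indFun_stab hinv φ x
  have hIker : ∀ φ (u : F), I φ (u : G) = 1 + if u = 1 then (n : ℂ) else 0 := fun φ u => by
    have h1 := hIb φ ⟨u, mem_stabilizer_iff.mpr (S.ker.fix u u.2)⟩
    rw [if_pos (S.proj_kernel u), S.proj_kernel, map_one, Units.val_one] at h1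
    rw [h1]
    congr 1
    by_cases hu : u = 1
    · rw [if_pos hu, if_pos (by rw [hu]; rfl)]
    · rw [if_neg hu, if_neg fun e => hu (Subtype.ext (congrArg (fun z : B => (z : G)) e))]
  have hproj : ∀ (h : H) (u : F) (p), S.proj (⟨(u : G) * h, p⟩ : B) = h := fun h u p => S.top_eq (u := u) rfl
  have havg : ∀ φ : H →* ℂˣ, ∑ x : B, (Λ φ x : ℂ) = if φ = 1 then (n * d : ℂ) else 0 := fun φ => by
    rw [S.sum_stab]
    simp only [Λ, MonoidHom.comp_apply, hproj, Finset.sum_const, Finset.card_univ, nsmul_eq_mul,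
      ← Finset.mul_sum, sum_lin, ← Nat.card_eq_fintype_card]
    split_ifs <;> simp [hn, hd]
  have hkern : ∑ x : B, (if S.proj x = 1 then ((if x = 1 then (n : ℂ) else 0) - 1) else 0) = 0 := by
    rw [S.sum_stab]
    simp only [hproj]
    rw [Fintype.sum_eq_single (1 : H) fun h hh => Finset.sum_eq_zero fun u _ => if_neg hh]
    simp only [if_true, Finset.sum_sub_distrib]
    rw [Fintype.sum_eq_single (1 : F) fun u hu => if_neg fun e => hu (Subtype.ext (by
      simpa using congrArg (fun z : B => (z : G)) e))]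
    rw [if_pos (Subtype.ext (by simp))]
    simp [hn, Nat.card_eq_fintype_card]
  have hsq1 : ∀ φ : H →* ℂˣ, φ * φ = 1 → φ = 1 := fun φ h => MonoidHom.ext fun x => by
    obtain ⟨m, hm⟩ := hodd
    have h2 : φ x * φ x = 1 := DFunLike.congr_fun h x
    have h3 : φ x ^ d = 1 := by rw [← map_pow, hd, pow_card_eq_one', map_one]
    rw [hm, pow_succ, pow_mul, pow_two, h2, one_pow, one_mul] at h3
    exact h3
  have hinner : ∀ φ, classInner (I φ) (I φ) = if φ = 1 then 2 else 1 := fun φ => by
    rw [CT.frobenius_reciprocity B _ (CT.isClassFunction_indFun B _), classInner]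
    have hterm : ∀ x : B, (Λ φ x : ℂ) * conj (I φ (x : G)) = 1 + (Λ (φ * φ) x : ℂ) +
        if S.proj x = 1 then ((if x = 1 then (n : ℂ) else 0) - 1) else 0 := fun x => by
      rw [hIb, map_add, mul_add]
      show (φ (S.proj x) : ℂ) * conj (φ (S.proj x) : ℂ) + (φ (S.proj x) : ℂ) * _ =
        1 + ((φ * φ) (S.proj x) : ℂ) + _
      rw [lin_mul_conj]
      by_cases h : S.proj x = 1
      · rw [if_pos h, if_pos h, h, map_one, map_one]
        split_ifs <;> simp
      · rw [if_neg h, if_neg h, ← map_inv, conj_lin, map_inv, inv_inv, add_zero, MonoidHom.mul_apply,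
          Units.val_mul]
    rw [Finset.sum_congr rfl fun x _ => hterm x, Finset.sum_add_distrib, Finset.sum_add_distrib,
      Finset.sum_const, Finset.card_univ, ← Nat.card_eq_fintype_card, hkern, havg, hBcard, nsmul_eq_mul,
      mul_one, add_zero]
    by_cases h : φ = 1
    · rw [if_pos h, if_pos (show φ * φ = 1 by rw [h]; exact MonoidHom.ext fun x => by simp)]
      push_cast
      field_simp
      ring
    · rw [if_neg h, if_neg fun e => h (hsq1 φ e)]
      push_cast
      field_simp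
      ring
  have hI0 : classInner (I 1) (fun _ : G => (1 : ℂ)) = 1 := by
    rw [CT.frobenius_reciprocity B _ (fun _ _ => rfl), classInner]
    simp only [Λ, MonoidHom.one_apply, MonoidHom.comp_apply, Units.val_one, map_one, mul_one, Finset.sum_const,
      Finset.card_univ, ← Nat.card_eq_fintype_card, nsmul_eq_mul]
    exact inv_mul_cancel₀ CT.card_ne_zero
  -- the second constituent of the permutation character
  set P := I 1 - fun _ : G => (1 : ℂ) with hP
  have hPirr : IsIrrCharacter G P := by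
    refine CT.isIrr_of_isGen_norm_one
      (CT.isGen_sub (CT.isGen_of_isCharacter (hIchar 1)) (CT.isGen_of_isCharacter CT.isCharacter_one)) ?_ ?_
    · rw [hP, CT.classInner_sub_left, CT.classInner_sub_right, CT.classInner_sub_right, hinner,
        ← CT.classInner_conj_symm (I 1) (fun _ : G => (1 : ℂ)), hI0,
        CT.irr_inner_self CT.isIrrCharacter_one, map_one, if_pos rfl]
      ring
    · have h1 : P 1 = (n : ℂ) := by
        show I 1 ((1 : F) : G) - 1 = _
        rw [hIker, if_pos rfl]; ring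
      rw [h1, Complex.natCast_re]
      exact_mod_cast Nat.card_pos
  let ψ : IrrCharacter G := ⟨P, hPirr⟩
  have hψf : ∀ f, S.mlt ψ f = 1 := fun f => by
    have h := S.mlt_of_shape ψ 0 n (fun u => by show I 1 (u : G) - 1 = _; rw [hIker]; ring) f
    rw [mul_zero, ite_self, zero_add] at h
    exact_mod_cast mul_left_cancel₀ hn0 (h.trans (mul_one _).symm)
  refine ⟨ψ, by rw [hψf]; norm_num, fun χ hχ f g hf hg => ?_⟩
  by_cases hχψ : χ = ψ
  · subst hχψ
    rw [hψf, hψf, hψf]
    simp
  rw [if_neg hχψ]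
  obtain ⟨φ, -, hne⟩ : ∃ φ ∈ (Finset.univ : Finset (H →* ℂˣ)), classInner (I φ) (χ : G → ℂ) ≠ 0 := by
    refine Finset.exists_ne_zero_of_sum_ne_zero ?_
    have hterm : ∀ φ, classInner (I φ) (χ : G → ℂ) =
        (Nat.card B : ℂ)⁻¹ * ∑ x : B, (Λ φ x : ℂ) * conj ((χ : G → ℂ) x) := fun φ =>
      CT.frobenius_reciprocity B _ (CT.isClassFunction_of_isIrr χ.2)
    simp only [hterm, ← Finset.mul_sum]
    rw [Finset.sum_comm, S.sum_stab]
    simp only [Λ, MonoidHom.comp_apply, hproj, ← Finset.sum_mul, sum_dual hHc]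
    rw [Fintype.sum_eq_single (1 : H) fun h hh => Finset.sum_eq_zero fun u _ => by rw [if_neg hh, zero_mul]]
    simp only [if_true, ← Finset.mul_sum, Subgroup.coe_one, mul_one]
    rw [← map_sum]
    have h0 : ∑ u : F, (χ : G → ℂ) u = (n : ℂ) * S.mlt χ 1 := by
      rw [hn, S.mlt_eq]; simp
    rw [h0, hBcard]
    have : (S.mlt χ 1 : ℂ) ≠ 0 := Nat.cast_ne_zero.mpr hχ
    simp only [map_mul, map_natCast]
    push_cast
    exact mul_ne_zero (inv_ne_zero (mul_ne_zero hn0 hd0)) (mul_ne_zero hd0 (mul_ne_zero hn0 this))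
  by_cases hφ : φ = 1
  · subst hφ
    have hone : (χ : G → ℂ) = fun _ => 1 := by
      by_contra h
      refine hne ?_
      rw [show I 1 = P + fun _ : G => (1 : ℂ) by rw [hP, sub_add_cancel], CT.classInner_add_left,
        CT.irr_inner_of_ne hPirr χ.2 (fun e => hχψ (Subtype.ext e.symm)),
        CT.irr_inner_of_ne CT.isIrrCharacter_one χ.2 (Ne.symm h), add_zero]
    have h := S.mlt_of_shape χ 1 0 (fun u => by rw [hone]; simp)
    have hk0 : ∀ k : F →* ℂˣ, k ≠ 1 → S.mlt χ k = 0 := fun k hk => by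
      have := h k
      rw [if_neg hk, zero_add] at this
      exact_mod_cast (mul_eq_zero.mp this).resolve_left hn0
    rw [hk0 f hf, hk0 g hg]
    simp
  · have hχI : (χ : G → ℂ) = I φ :=
      (CT.eq_of_inner_ne_zero (CT.isIrr_of_inner_self (hIchar φ) (by rw [hinner, if_neg hφ])) χ.2 hne).symm
    have h := S.mlt_of_shape χ 1 n (fun u => by rw [hχI, hIker])
    have hk1 : ∀ k : F →* ℂˣ, k ≠ 1 → S.mlt χ k = 1 := fun k hk => by
      have := h k
      rw [if_neg hk, zero_add] at this
      exact_mod_cast mul_left_cancel₀ hn0 (this.trans (mul_one _).symm)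
    have hk2 : S.mlt χ 1 = 2 := by
      have := h 1
      rw [if_pos rfl] at this
      exact_mod_cast mul_left_cancel₀ hn0 (this.trans (by ring : (n : ℂ) * 1 + n = (n : ℂ) * 2))
    rw [hk1 f hf, hk1 g hg, hk2]
    simp

end Cfsg.Agent.ZassSharp.Odd
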